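import Cfsg.Agent.Lib.Char.J1.Spectrum
import Cfsg.Agent.Lib.AutPSL.Root

/-!
# Cyclic subgroups of prime power order in `PSL₂(F)` and `J₁` are TI

In `PSL₂(F)` every cyclic subgroup is TI unless it is generated by a unipotent element, which has
prime order.  In `J₁` the element orders which are prime powers are primes.
-/

set_option autoImplicit false
set_option linter.style.haveILetI false

namespace CfsgLib.Invol.TICyclic.Converse

open Matrix Subgroup CfsgLib.AutPSL

universe u

/-- The conclusion for one subgroup. -/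
theorem ti_of_prime_card {G : Type*} [Group G] [Finite G] {H : Subgroup G} (hH : (Nat.card H).Prime)
    (g : G) : H.map (MulAut.conj g).toMonoidHom = H ∨ H.map (MulAut.conj g).toMonoidHom ⊓ H = ⊥ := by
  haveI : Fact (Nat.card H).Prime := ⟨hH⟩
  rcases ((H.map (MulAut.conj g).toMonoidHom).subgroupOf H).eq_bot_or_eq_top_of_prime_card with h | h
  · exact Or.inr (disjoint_iff.1 (subgroupOf_eq_bot.1 h))
  · refine Or.inl (Subgroup.eq_of_le_of_card_ge (subgroupOf_eq_top.1 h) ?_).symm
    rw [Subgroup.card_map_of_injective (MulAut.conj g).injective]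

variable {F : Type*} [Field F]

local notation "SL₂" => Matrix.SpecialLinearGroup (Fin 2) F
local notation "PSL₂" => Matrix.ProjectiveSpecialLinearGroup (Fin 2) F

/-- A matrix commuting with a nonscalar two by two matrix is a polynomial in it. -/
theorem exists_lin {X W : Matrix (Fin 2) (Fin 2) F} (hX : ¬ ∃ c : F, X = c • 1) (h : X * W = W * X) :
    ∃ a b : F, W = a • 1 + b • X := by
  have e00 := congrFun (congrFun h 0) 0
  have e01 := congrFun (congrFun h 0) 1
  have e10 := congrFun (congrFun h 1) 0
  simp [Matrix.mul_apply, Fin.sum_univ_two] at e00 e01 e10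
  have key : ∀ a b : F, W 0 0 = a + b * X 0 0 → W 0 1 = b * X 0 1 → W 1 0 = b * X 1 0 →
      W 1 1 = a + b * X 1 1 → ∃ a b : F, W = a • 1 + b • X := by
    intro a b h1 h2 h3 h4
    refine ⟨a, b, ?_⟩
    ext i j
    fin_cases i <;> fin_cases j <;> simp <;> assumption
  by_cases h1 : X 0 1 = 0
  · by_cases h2 : X 1 0 = 0
    · have h3 : X 0 0 - X 1 1 ≠ 0 := fun h0 => hX ⟨X 0 0, by
        ext i j
        fin_cases i <;> fin_cases j <;> simp [h1, h2, (sub_eq_zero.1 h0).symm]⟩
      set b := (W 0 0 - W 1 1) / (X 0 0 - X 1 1) with hb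
      refine key (W 0 0 - b * X 0 0) b (by ring) ?_ ?_ ?_
      · rw [h1, mul_zero]
        refine (mul_eq_zero.1 (show (X 0 0 - X 1 1) * W 0 1 = 0 from ?_)).resolve_left h3
        rw [h1] at e01
        linear_combination e01
      · rw [h2, mul_zero]
        refine (mul_eq_zero.1 (show (X 0 0 - X 1 1) * W 1 0 = 0 from ?_)).resolve_left h3
        rw [h2] at e10
        linear_combination -e10
      · rw [hb]
        field_simp
        ring
    · refine key (W 0 0 - W 1 0 / X 1 0 * X 0 0) (W 1 0 / X 1 0) (by ring) ?_ ?_ ?_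
      · field_simp
        linear_combination -e00
      · field_simp
      · field_simp
        linear_combination -e10
  · refine key (W 0 0 - W 0 1 / X 0 1 * X 0 0) (W 0 1 / X 0 1) (by ring) ?_ ?_ ?_
    · field_simp
    · field_simp
      linear_combination e00
    · field_simp
      linear_combination e01

/-- Two matrices commuting with a nonscalar one commute. -/
theorem commute_of_commute {Z X W : Matrix (Fin 2) (Fin 2) F} (hZ : ¬ ∃ c : F, Z = c • 1)
    (h1 : Z * X = X * Z) (h2 : Z * W = W * Z) : X * W = W * X := by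
  obtain ⟨a, b, rfl⟩ := exists_lin hZ h1
  obtain ⟨c, d, rfl⟩ := exists_lin hZ h2
  simp only [add_mul, mul_add, smul_mul_assoc, mul_smul_comm, one_mul, mul_one]
  module

/-- Cayley–Hamilton in `SL₂`. -/
theorem sq_eq (X : SL₂) : X.1 * X.1 = X.1.trace • X.1 - 1 := by
  have hd := X.2
  rw [Matrix.det_fin_two] at hd
  ext i j
  fin_cases i <;> fin_cases j <;> simp [Matrix.mul_apply, Fin.sum_univ_two, Matrix.trace_fin_two] <;>
    first | linear_combination -hd | ring

theorem inv_eq (X : SL₂) : (X⁻¹).1 = X.1.trace • 1 - X.1 := by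
  rw [Matrix.SpecialLinearGroup.coe_inv, Matrix.adjugate_fin_two]
  ext i j
  fin_cases i <;> fin_cases j <;> simp [Matrix.trace_fin_two]

theorem not_scalar {Z : SL₂} (h : proj Z ≠ 1) : ¬ ∃ c : F, Z.1 = c • 1 := by
  rintro ⟨c, hc⟩
  refine h ?_
  rw [← map_one (proj (n := 2) (F := F)), eq_comm, proj_eq_iff]
  refine ⟨c, ?_, by simpa using hc⟩
  have := Z.2
  rwa [hc, Matrix.det_smul, Fintype.card_fin, Matrix.det_one, mul_one] at this

/-- Every cyclic subgroup of prime power order of `PSL₂(F)` is TI. -/
theorem ti_psl [Finite F] (H : Subgroup PSL₂) (hc : IsCyclic H) (hpp : IsPrimePow (Nat.card H))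
    (g : PSL₂) : H.map (MulAut.conj g).toMonoidHom = H ∨ H.map (MulAut.conj g).toMonoidHom ⊓ H = ⊥ := by
  obtain ⟨x, rfl⟩ := H.isCyclic_iff_exists_zpowers_eq_top.1 hc
  rw [Nat.card_zpowers] at hpp
  obtain ⟨X, rfl⟩ := QuotientGroup.mk'_surjective _ x
  obtain ⟨G, rfl⟩ := QuotientGroup.mk'_surjective _ g
  set t := X.1.trace with ht
  rcases eq_or_ne (t ^ 2) 4 with h4 | h4
  · -- the generator is unipotent up to sign
    obtain ⟨p, hp⟩ := CharP.exists F
    haveI : Fact p.Prime := ⟨(CharP.char_is_prime_or_zero F p).resolve_right fun h0 => by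
      subst h0
      haveI := CharP.charP_to_charZero F
      exact not_finite F⟩
    haveI : CharP (Matrix (Fin 2) (Fin 2) F) p := Matrix.charP p
    obtain ⟨s, hs, hN⟩ : ∃ s : F, s ^ 2 = 1 ∧ (X.1 - s • (1 : Matrix (Fin 2) (Fin 2) F)) ^ 2 = 0 := by
      by_cases h2 : (2 : F) = 0
      · refine ⟨1, one_pow 2, ?_⟩
        have ht0 : t = 0 := by
          have : t ^ 2 = 0 := by rw [h4]; linear_combination (2 : F) * h2
          exact eq_zero_of_pow_eq_zero this
        have h22 : (2 : Matrix (Fin 2) (Fin 2) F) = 0 := by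
          rw [show (2 : Matrix (Fin 2) (Fin 2) F) = (2 : F) • 1 by
            ext i j; fin_cases i <;> fin_cases j <;> simp [Matrix.ofNat_apply], h2, zero_smul]
        rw [one_smul, sq, sub_mul, mul_sub, one_mul, mul_one, sq_eq, ← ht, ht0, zero_smul, zero_sub,
          show -1 - X.1 - (X.1 - 1) = -(2 : Matrix (Fin 2) (Fin 2) F) * X.1 by noncomm_ring, h22,
          neg_zero, zero_mul]
      · refine ⟨t / 2, by field_simp; linear_combination h4, ?_⟩
        rw [sq, sub_mul, mul_sub, mul_sub, smul_mul_smul_comm, smul_mul_assoc, mul_smul_comm, one_mul,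
          mul_one, mul_one, sq_eq, ← ht]
        match_scalars <;> field_simp
        all_goals first
          | ring1
          | linear_combination h4
          | linear_combination -h4
    have hp0 : (X.1 - s • 1) ^ p = 0 := pow_eq_zero_of_le (Fact.out (p := p.Prime)).two_le hN
    rw [sub_pow_char_of_commute p ((Commute.one_right _).smul_right s), sub_eq_zero, smul_pow,
      one_pow] at hp0
    have h1 : proj X ^ p = 1 := by
      rw [← map_pow, ← map_one (proj (n := 2) (F := F)), eq_comm, proj_eq_iff]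
      refine ⟨s ^ p, by rw [← pow_mul, mul_comm, pow_mul, hs, one_pow], ?_⟩
      rw [Matrix.SpecialLinearGroup.coe_pow, hp0, Matrix.SpecialLinearGroup.coe_one]
    refine ti_of_prime_card ?_ _
    rw [Nat.card_zpowers]
    rcases (Nat.dvd_prime (Fact.out (p := p.Prime))).1 (orderOf_dvd_of_pow_eq_one h1) with h | h
    · exact absurd h hpp.ne_one
    · rw [h]; exact Fact.out
  · -- the semisimple case
    refine or_iff_not_imp_right.2 fun hne => ?_
    obtain ⟨z, hz, hz1⟩ := (Subgroup.bot_or_exists_ne_one _).resolve_left hne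
    obtain ⟨⟨y, hy, rfl⟩, hzX⟩ := hz
    obtain ⟨i, rfl⟩ := hy
    obtain ⟨j, hj⟩ := hzX
    change proj X ^ j = proj G * proj X ^ i * (proj G)⁻¹ at hj
    change proj G * proj X ^ i * (proj G)⁻¹ ≠ 1 at hz1
    set W : SL₂ := G * X * G⁻¹ with hW
    have hWi : proj (W ^ i) = proj (X ^ j) := by
      rw [map_zpow, map_zpow, hW, map_mul, map_mul, map_inv, conj_zpow, hj]
    have hns : ¬ ∃ c : F, (W ^ i).1 = c • 1 := not_scalar (by
      rw [map_zpow, hW, map_mul, map_mul, map_inv, conj_zpow]; exact hz1)
    obtain ⟨c, -, hcW⟩ := proj_eq_iff.1 hWi.symm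
    have hcomm : X.1 * W.1 = W.1 * X.1 := by
      refine commute_of_commute hns ?_ ?_
      · rw [hcW, smul_mul_assoc, mul_smul_comm, ← Matrix.SpecialLinearGroup.coe_mul,
          ← Matrix.SpecialLinearGroup.coe_mul, Commute.eq (Commute.zpow_self X j)]
      · rw [← Matrix.SpecialLinearGroup.coe_mul, ← Matrix.SpecialLinearGroup.coe_mul,
          Commute.eq (Commute.zpow_self W i)]
    have hXns : ¬ ∃ c : F, X.1 = c • 1 := by
      rintro ⟨c, hc⟩
      refine h4 ?_
      have hd := X.2
      rw [hc, Matrix.det_smul, Fintype.card_fin, Matrix.det_one, mul_one] at hd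
      rw [ht, hc, Matrix.trace_smul, Matrix.trace_one, Fintype.card_fin, smul_eq_mul]
      push_cast
      linear_combination 4 * hd
    obtain ⟨a, b, hab⟩ := exists_lin hXns hcomm
    have htW : W.1.trace = t := by
      rw [hW, Matrix.SpecialLinearGroup.coe_mul, Matrix.SpecialLinearGroup.coe_mul, Matrix.trace_mul_cycle,
        ← Matrix.SpecialLinearGroup.coe_mul, inv_mul_cancel, Matrix.SpecialLinearGroup.coe_one, one_mul]
    have htr : 2 * a + b * t = t := by
      have := congrArg Matrix.trace hab
      rw [htW, Matrix.trace_add, Matrix.trace_smul, Matrix.trace_smul, Matrix.trace_one,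
        Fintype.card_fin, ← ht, smul_eq_mul, smul_eq_mul] at this
      push_cast at this
      linear_combination -this
    have hdet : a ^ 2 + a * b * t + b ^ 2 = 1 := by
      have h := W.2
      have hd := X.2
      rw [hab, Matrix.det_fin_two] at h
      rw [Matrix.det_fin_two] at hd
      simp at h
      rw [ht, Matrix.trace_fin_two]
      linear_combination h - b ^ 2 * hd
    have hb : b ^ 2 = 1 := by
      refine mul_right_cancel₀ (sub_ne_zero.2 h4) ?_
      linear_combination (2 * a + b * t + t) * htr - 4 * hdet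
    have h' : a * (a + b * t) = 0 := by linear_combination hdet - hb
    have hWX : W.1 = b • X.1 ∨ W.1 = b • (X.1 - t • 1) := by
      rcases mul_eq_zero.1 h' with h | h
      · left; rw [hab, h, zero_smul, zero_add]
      · right; rw [hab, eq_neg_of_add_eq_zero_left h, smul_sub, smul_smul]; module
    have hmem : proj W = proj X ∨ proj W = (proj X)⁻¹ := by
      rcases hWX with h | h
      · left; rw [eq_comm, proj_eq_iff]; exact ⟨b, hb, h⟩
      · right; rw [eq_comm, ← map_inv, proj_eq_iff]
        exact ⟨-b, by rw [neg_sq, hb], by rw [h, inv_eq, ← ht]; module⟩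
    rw [MonoidHom.map_zpowers]
    show zpowers (proj G * proj X * (proj G)⁻¹) = zpowers (proj X)
    rw [← map_inv, ← map_mul, ← map_mul, ← hW]
    rcases hmem with h | h <;> rw [h]
    exact zpowers_inv

/-- Every cyclic subgroup of prime power order of `J₁` has prime order. -/
theorem ti_j1 {G : Type*} [Group G] [Finite G] (hJ : Cfsg.Spor.IsoJ1 G) (H : Subgroup G)
    (hc : IsCyclic H) (hpp : IsPrimePow (Nat.card H)) (g : G) :
    H.map (MulAut.conj g).toMonoidHom = H ∨ H.map (MulAut.conj g).toMonoidHom ⊓ H = ⊥ := by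
  obtain ⟨e⟩ := hJ
  obtain ⟨x, rfl⟩ := H.isCyclic_iff_exists_zpowers_eq_top.1 hc
  refine ti_of_prime_card ?_ g
  rw [Nat.card_zpowers, ← e.orderOf_eq x] at hpp ⊢
  have hmem : orderOf (e x) ∈ Set.range (orderOf : ↥Cfsg.Spor.J1 → ℕ) := ⟨e x, rfl⟩
  rw [CfsgLib.Char.J1.range_orderOf] at hmem
  simp only [Set.mem_insert_iff, Set.mem_singleton_iff] at hmem
  obtain ⟨p, -, hu⟩ := isPrimePow_iff_unique_prime_dvd.1 hpp
  have two : ∀ a b : ℕ, a.Prime → b.Prime → a ∣ orderOf (e x) → b ∣ orderOf (e x) → a = b :=
    fun a b ha hb ha' hb' => (hu a ⟨ha, ha'⟩).trans (hu b ⟨hb, hb'⟩).symm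
  have h23 := two 2 3 Nat.prime_two Nat.prime_three
  have h25 := two 2 5 Nat.prime_two Nat.prime_five
  have h35 := two 3 5 Nat.prime_three Nat.prime_five
  rcases hmem with h | h | h | h | h | h | h | h | h | h <;> rw [h] at h23 h25 h35 hpp ⊢
  · exact absurd rfl hpp.ne_one
  all_goals first
    | (norm_num; done)
    | (exfalso; norm_num at h23; done)
    | (exfalso; norm_num at h25; done)
    | (exfalso; norm_num at h35; done)

/-- The converse direction of S3411. -/
theorem ti_of_list {G : Type u} [Group G] [Finite G]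
    (h : (∃ (F : Type) (_ : Field F) (_ : Fintype F), 3 < Fintype.card F ∧
      Nonempty (G ≃* Matrix.ProjectiveSpecialLinearGroup (Fin 2) F)) ∨ Cfsg.Spor.IsoJ1 G) :
    ∀ H : Subgroup G, IsCyclic H → IsPrimePow (Nat.card H) → ∀ g : G,
      H.map (MulAut.conj g).toMonoidHom = H ∨ H.map (MulAut.conj g).toMonoidHom ⊓ H = ⊥ := by
  intro H hc hpp g
  rcases h with ⟨F, _, _, -, ⟨e⟩⟩ | hJ
  · have hinj : Function.Injective (Subgroup.map e.toMonoidHom) := Subgroup.map_injective e.injective
    have hcomm : (H.map (MulAut.conj g).toMonoidHom).map e.toMonoidHom =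
        (H.map e.toMonoidHom).map (MulAut.conj (e g)).toMonoidHom := by
      rw [Subgroup.map_map, Subgroup.map_map]
      congr 1
      ext y
      simp
    haveI := hc
    rcases ti_psl (H.map e.toMonoidHom)
      (isCyclic_of_surjective (H.equivMapOfInjective e.toMonoidHom e.injective).toMonoidHom
        (H.equivMapOfInjective e.toMonoidHom e.injective).surjective)
      (by rwa [Subgroup.card_map_of_injective e.injective]) (e g) with h | h
    · exact Or.inl (hinj (hcomm.trans h))
    · refine Or.inr (hinj ?_)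
      rw [Subgroup.map_inf _ _ _ e.injective, hcomm, h, Subgroup.map_bot]
  · exact ti_j1 hJ H hc hpp g

end CfsgLib.Invol.TICyclic.Converse
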