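import Cfsg.Agent.Lib.Invol.TICyclic.Gen
import Cfsg.Agent.Lib.Invol.CentralInter.Orbit
import Cfsg.Agent.Lib.Invol.IntrinsicSL.Basic
import Cfsg.Agent.Lib.Fusion.Tate
import Cfsg.Agent.Lib.Perm.Dickson.Recog
import Cfsg.Agent.Lib.CIT.Main
import Cfsg.Agent.S1225

/-!
# Cyclic two-subgroups with trivial intersections: a nonabelian Sylow subgroup is dihedral

Several squares give a strongly embedded subgroup, one square gives a transfer killing the centre.
-/

set_option autoImplicit false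
set_option linter.style.haveILetI false
set_option linter.unusedSectionVars false

open Subgroup

namespace CfsgLib.TICyclic

open CfsgLib.Invol CfsgLib.CentInt

universe u

variable {G : Type u} [Group G] [Finite G]

/-- An involution that is the square of an element of `S`. -/
def Sq (S : Sylow 2 G) (z : G) : Prop := ∃ y ∈ (S : Subgroup G), orderOf y = 4 ∧ y * y = z

variable {S : Sylow 2 G} {C : Subgroup G}

theorem GenDih.mem_zSub (d : GenDih S C) {h : G} (hC : h ∈ C) (h2 : h * h = 1) : h ∈ zSub S := by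
  refine ⟨d.le hC, h2, fun s hs => ?_⟩
  by_cases hsC : s ∈ C
  · exact d.comm s hsC h hC
  · have := (d.outside s hs hsC).2 h hC
    rw [inv_eq_of_mul_eq_one_left h2] at this
    exact mul_inv_eq_iff_eq_mul.1 this

theorem GenDih.zSub_subset (d : GenDih S C) {h : G} (hh : h ∈ zSub S) : h ∈ C := by
  by_contra hC
  obtain ⟨y, hyS, hy⟩ := d.exists_four
  have := (d.outside h hh.1 hC).2 y (d.four y hyS hy)
  rw [← hh.2.2 y hyS, mul_inv_cancel_right] at this
  exact four_ne_inv hy this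

theorem GenDih.mul_mem_of_outside (d : GenDih S C) {a b : G} (ha : a ∈ (S : Subgroup G)) (haC : a ∉ C)
    (hb : b ∈ (S : Subgroup G)) (hbC : b ∉ C) : a * b ∈ C := by
  by_contra h
  obtain ⟨y, hyS, hy⟩ := d.exists_four
  have h1 := (d.outside _ (mul_mem ha hb) h).2 y (d.four y hyS hy)
  rw [show a * b * y * (a * b)⁻¹ = a * (b * y * b⁻¹) * a⁻¹ by group,
    (d.outside b hb hbC).2 y (d.four y hyS hy), (d.outside a ha haC).2 y⁻¹ (inv_mem (d.four y hyS hy)),
    inv_inv] at h1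
  exact four_ne_inv hy h1

theorem Sq.mem (d : GenDih S C) {z : G} (hz : Sq S z) : z ∈ zSub S := by
  obtain ⟨y, hyS, hy, rfl⟩ := hz
  exact d.mem_zSub (mul_mem (d.four y hyS hy) (d.four y hyS hy)) (invol_mul_self (sq_invol hy))

theorem Sq.invol {z : G} (hz : Sq S z) : orderOf z = 2 := by
  obtain ⟨y, hyS, hy, rfl⟩ := hz
  exact sq_invol hy

/-- Fusion of central involutions is controlled by the normalizer. -/
theorem exists_conj_normalizer {a : G} (ha : a ∈ zSub S) {g : G} (hg : g * a * g⁻¹ ∈ zSub S) :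
    ∃ n ∈ normalizer ((S : Subgroup G) : Set G), n * a * n⁻¹ = g * a * g⁻¹ := by
  haveI : Fact (Nat.Prime 2) := ⟨Nat.prime_two⟩
  exact CfsgLib.Fusion.exists_normalizer_conj_eq_of_central S
    (fun s hs => mem_centralizer_singleton_iff.2 (ha.2.2 s hs)) g
    (fun s hs => mem_centralizer_singleton_iff.2 (hg.2.2 s hs))

theorem Sq.conj {z : G} (hz : Sq S z) (d : GenDih S C) {g : G} (hg : g * z * g⁻¹ ∈ zSub S) :
    Sq S (g * z * g⁻¹) := by
  obtain ⟨n, hn, e⟩ := exists_conj_normalizer (hz.mem d) hg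
  obtain ⟨y, hyS, hy, rfl⟩ := hz
  refine ⟨n * y * n⁻¹, (mem_normalizer_iff.1 hn y).1 hyS, ?_, ?_⟩
  · rw [← MulAut.conj_apply, MulEquiv.orderOf_eq, hy]
  · rw [← e]; group

variable (hTI : CycTI G) (d : GenDih S C)
include hTI d

/-- The centralizer of a square involution centralizes the central involutions. -/
theorem cent_le {z : G} (hz : Sq S z) {g : G} (hg : g * z = z * g) {h : G} (hh : h ∈ zSub S) :
    g * h = h * g := by
  haveI : Fact (Nat.Prime 2) := ⟨Nat.prime_two⟩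
  obtain ⟨y, hyS, hy, rfl⟩ := hz
  set z := y * y with hzd
  have hzz : z * z = 1 := invol_mul_self (sq_invol hy)
  have hzh : z * h = h * z := hh.2.2 z (mul_mem hyS hyS)
  have hyh : y * h = h * y := hh.2.2 y hyS
  have hyho : orderOf (y * h) = 4 := by
    have e : y * h * (y * h) = z := by
      rw [(show Commute h y from hyh.symm).mul_mul_mul_comm, hh.2.1, mul_one]
    exact orderOf_four (e ▸ invol_ne_one (sq_invol hy)) (by rw [e, hzz])
  have orb : ∀ r : G, r * z = z * r → r * h * r⁻¹ = h ∨ r * h * r⁻¹ = z * h := by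
    intro r hr
    have hr' : r * (y * h * (y * h)) = y * h * (y * h) * r := by
      rw [(show Commute h y from hyh.symm).mul_mul_mul_comm, hh.2.1, mul_one]; exact hr
    have e : r * h * r⁻¹ = (r * y * r⁻¹)⁻¹ * (r * (y * h) * r⁻¹) := by group
    have hiy : y⁻¹ = z * y := by
      refine inv_eq_of_mul_eq_one_left ?_
      rw [mul_assoc, ← hzd, hzz]
    have hhi : h⁻¹ = h := inv_eq_of_mul_eq_one_left hh.2.1
    rcases conj_four hTI hy hr with h1 | h1 <;> rcases conj_four hTI hyho hr' with h2 | h2 <;>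
      rw [h1, h2] at e
    · exact Or.inl (by rw [e, inv_mul_cancel_left])
    · right
      rw [e, mul_inv_rev, hhi, hiy]
      calc z * y * (h * (z * y)) = z * ((y * h) * z) * y := by group
        _ = z * (h * (y * z)) * y := by rw [hyh]; group
        _ = z * h * (y * z * y) := by group
        _ = z * h := by rw [hzd, show y * (y * y) * y = (y * y) * (y * y) by group, ← hzd, hzz, mul_one]
    · right
      rw [e, inv_inv, ← mul_assoc]
    · left
      rw [e, inv_inv, mul_inv_rev, hhi, ← mul_assoc, hyh, mul_inv_cancel_right]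
  rcases orb g hg with h1 | h1
  · exact mul_inv_eq_iff_eq_mul.1 h1
  exfalso
  set K := centralizer ({z} : Set G) with hK
  have hSK : (S : Subgroup G) ≤ K := fun s hs =>
    mem_centralizer_singleton_iff.2 (sq_central hTI S hyS hy s hs)
  obtain ⟨m, hm, l, hl⟩ := CfsgLib.Invol.IntrinsicSL.exists_odd_pow_twoEl g
  have hgK : g ∈ K := mem_centralizer_singleton_iff.2 hg
  have hgz : g * z * g⁻¹ = z := by rw [hg, mul_inv_cancel_right]
  -- odd powers of `g` move `h`
  obtain ⟨j, rfl⟩ := hm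
  have hmove : g ^ (2 * j + 1) * h * (g ^ (2 * j + 1))⁻¹ = z * h := by
    clear hl
    induction j with
    | zero => simpa using h1
    | succ j ih =>
      calc g ^ (2 * (j + 1) + 1) * h * (g ^ (2 * (j + 1) + 1))⁻¹
          = g * (g * (g ^ (2 * j + 1) * h * (g ^ (2 * j + 1))⁻¹) * g⁻¹) * g⁻¹ := by
            rw [show 2 * (j + 1) + 1 = 1 + (1 + (2 * j + 1)) by omega, pow_add, pow_add, pow_one]; group
        _ = g * ((g * z * g⁻¹) * (g * h * g⁻¹)) * g⁻¹ := by rw [ih]; group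
        _ = g * (z * (z * h)) * g⁻¹ := by rw [hgz, h1]
        _ = g * h * g⁻¹ := by rw [← mul_assoc z z h, hzz, one_mul]
        _ = z * h := h1
  have hP : IsPGroup 2 (zpowers (⟨g ^ (2 * j + 1), pow_mem hgK _⟩ : K)) := by
    rintro ⟨w, hw⟩
    obtain ⟨i, rfl⟩ := mem_zpowers_iff.1 hw
    refine ⟨l, Subtype.ext (Subtype.ext ?_)⟩
    show ((g ^ (2 * j + 1)) ^ i) ^ 2 ^ l = 1
    rw [← zpow_natCast ((g ^ (2 * j + 1)) ^ i), ← zpow_mul, mul_comm i, zpow_mul, zpow_natCast, hl, one_zpow]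
  obtain ⟨c, hc⟩ := exists_conj_le_sylow hP (S.subtype hSK)
  have hcS : (c : G) * g ^ (2 * j + 1) * (c : G)⁻¹ ∈ (S : Subgroup G) := hc _ (mem_zpowers _)
  have hcz : (c : G) * z = z * c := mem_centralizer_singleton_iff.1 c.2
  refine invol_ne_one (sq_invol hy) (mul_eq_right.1 (hmove.symm.trans ?_))
  have hcen := hh.2.2 _ hcS
  have key : g ^ (2 * j + 1) * ((c : G)⁻¹ * h * c) * (g ^ (2 * j + 1))⁻¹ = (c : G)⁻¹ * h * c := by
    calc g ^ (2 * j + 1) * ((c : G)⁻¹ * h * c) * (g ^ (2 * j + 1))⁻¹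
        = (c : G)⁻¹ * (((c : G) * g ^ (2 * j + 1) * (c : G)⁻¹) * h *
            ((c : G) * g ^ (2 * j + 1) * (c : G)⁻¹)⁻¹) * c := by group
      _ = (c : G)⁻¹ * h * c := by rw [hcen, mul_inv_cancel_right]
  have hci : (c : G)⁻¹ * z = z * (c : G)⁻¹ := (show Commute (c : G) z from hcz).inv_left.eq
  have hgm : g ^ (2 * j + 1) * z = z * g ^ (2 * j + 1) := ((show Commute g z from hg).pow_left _).eq
  rcases orb _ hci with h2 | h2 <;> rw [inv_inv] at h2 <;> rw [h2] at key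
  · exact key
  · exact mul_left_cancel (a := z) (by
      calc z * (g ^ (2 * j + 1) * h * (g ^ (2 * j + 1))⁻¹)
          = (z * g ^ (2 * j + 1)) * h * (g ^ (2 * j + 1))⁻¹ := by group
        _ = g ^ (2 * j + 1) * (z * h) * (g ^ (2 * j + 1))⁻¹ := by rw [← hgm]; group
        _ = z * h := key)

variable [IsSimpleGroup G] (hna : ¬ IsMulCommutative G)
include hna

/-- All the squares coincide. -/
theorem sq_unique {a b : G} (ha : Sq S a) (hb : Sq S b) : a = b := by
  haveI : Fact (Nat.Prime 2) := ⟨Nat.prime_two⟩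
  by_contra hab
  obtain ⟨y₁, hy₁S, hy₁, rfl⟩ := ha
  obtain ⟨y₂, hy₂S, hy₂, rfl⟩ := hb
  obtain ⟨h12, h12e⟩ := four_mul hTI S hy₁S hy₁ hy₂S hy₂ hab
  have hsa : Sq S (y₁ * y₁) := ⟨y₁, hy₁S, hy₁, rfl⟩
  have hsb : Sq S (y₂ * y₂) := ⟨y₂, hy₂S, hy₂, rfl⟩
  have hsab : Sq S (y₁ * y₁ * (y₂ * y₂)) := ⟨y₁ * y₂, mul_mem hy₁S hy₂S, h12, h12e⟩
  -- conjugates of squares in `S` lie in `C`
  have hin : ∀ z, Sq S z → ∀ g : G, g * z * g⁻¹ ∈ (S : Subgroup G) → g * z * g⁻¹ ∈ zSub S := by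
    intro z hz g hg
    have hwo : g * z * g⁻¹ * (g * z * g⁻¹) = 1 := invol_mul_self (invol_conj hz.invol g)
    by_contra hw
    set w := g * z * g⁻¹ with hwd
    have hwC : w ∉ C := fun h => hw (d.mem_zSub h hwo)
    set K := centralizer ({w} : Set G) with hK
    have hzc : ∀ s ∈ (S : Subgroup G), s * z = z * s := (hz.mem d).2.2
    have hUK : ((g • S : Sylow 2 G) : Subgroup G) ≤ K := fun r hr => by
      refine mem_centralizer_singleton_iff.2 ?_
      calc r * w = g * ((g⁻¹ * r * g) * z) * g⁻¹ := by rw [hwd]; group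
        _ = g * (z * (g⁻¹ * r * g)) * g⁻¹ := by rw [hzc _ (mem_smul.1 hr)]
        _ = w * r := by rw [hwd]; group
    have hZK : zSub S ≤ K := fun h hh => mem_centralizer_singleton_iff.2 (hh.2.2 w hg).symm
    obtain ⟨c, hc⟩ := exists_conj_le_sylow ((S.2.to_le (zSub_le S)).comap_subtype (K := K))
      ((g • S : Sylow 2 G).subtype hUK)
    set g' := (c : G)⁻¹ * g with hg'
    have hmem : ∀ h ∈ zSub S, g'⁻¹ * h * g' ∈ (S : Subgroup G) := fun h hh => by
      have := mem_smul.1 (hc ⟨h, hZK hh⟩ hh)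
      rw [hg']
      simpa [mul_assoc] using this
    have hg'z : g' * z * g'⁻¹ = w := by
      rw [hg', show (c : G)⁻¹ * g * z * ((c : G)⁻¹ * g)⁻¹ = (c : G)⁻¹ * w * c by rw [hwd]; group,
        mul_assoc, ← mem_centralizer_singleton_iff.1 c.2, inv_mul_cancel_left]
    -- a square whose image lies in `C`
    obtain ⟨a, ha, haC⟩ : ∃ a, Sq S a ∧ g'⁻¹ * a * g' ∈ C := by
      by_cases h1 : g'⁻¹ * (y₁ * y₁) * g' ∈ C
      · exact ⟨_, hsa, h1⟩
      by_cases h2 : g'⁻¹ * (y₂ * y₂) * g' ∈ C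
      · exact ⟨_, hsb, h2⟩
      refine ⟨_, hsab, ?_⟩
      have := d.mul_mem_of_outside (hmem _ (hsa.mem d)) h1 (hmem _ (hsb.mem d)) h2
      simpa [mul_assoc] using this
    have hao := invol_mul_self ha.invol
    have hk : g'⁻¹ * a * g' ∈ zSub S := d.mem_zSub haC (by
      rw [show g'⁻¹ * a * g' * (g'⁻¹ * a * g') = g'⁻¹ * (a * a) * g' by group, hao]; group)
    have hksq : Sq S (g'⁻¹ * a * g') := by
      have := ha.conj d (g := g'⁻¹) (by rwa [inv_inv])
      rwa [inv_inv] at this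
    refine hw ⟨hg, hwo, fun s hs => ?_⟩
    have hsk : (g'⁻¹ * s * g') * (g'⁻¹ * a * g') = (g'⁻¹ * a * g') * (g'⁻¹ * s * g') := by
      calc g'⁻¹ * s * g' * (g'⁻¹ * a * g') = g'⁻¹ * (s * a) * g' := by group
        _ = g'⁻¹ * (a * s) * g' := by rw [(ha.mem d).2.2 s hs]
        _ = _ := by group
    have h := cent_le hTI d hksq hsk (hz.mem d)
    calc s * w = g' * ((g'⁻¹ * s * g') * z) * g'⁻¹ := by rw [← hg'z]; group
      _ = g' * (z * (g'⁻¹ * s * g')) * g'⁻¹ := by rw [h]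
      _ = w * s := by rw [← hg'z]; group
  -- the normalizer of the centre is strongly embedded
  set z := y₁ * y₁ with hz
  have hzo : orderOf z = 2 := hsa.invol
  set M := normalizer (zSub S : Set G) with hM
  have hSM : (S : Subgroup G) ≤ M := CfsgLib.CIT.le_normalizer_of_forall fun s hs h hh => by
    rw [hh.2.2 s hs, mul_inv_cancel_right]; exact hh
  have hNM : normalizer ((S : Subgroup G) : Set G) ≤ M := CfsgLib.CIT.le_normalizer_of_forall fun n hn h hh =>
    conj_mem_zSub_of_normalizer hn hh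
  have hCM : ∀ v, Sq S v → centralizer ({v} : Set G) ≤ M := fun v hv => CfsgLib.CIT.le_normalizer_of_forall fun r hr h hh => by
    rw [cent_le hTI d hv (mem_centralizer_singleton_iff.1 hr) hh, mul_inv_cancel_right]; exact hh
  have hfuse : ∀ g : G, g * z * g⁻¹ ∈ M → g ∈ M := by
    intro g hg
    have hP : IsPGroup 2 (zpowers (⟨g * z * g⁻¹, hg⟩ : M)) := IsPGroup.of_card (n := 1) (by
      rw [Nat.card_zpowers, Subgroup.orderOf_mk, invol_conj hzo g, pow_one])
    obtain ⟨c, hc⟩ := exists_conj_le_sylow hP (S.subtype hSM)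
    have hcS : (c : G) * g * z * ((c : G) * g)⁻¹ ∈ (S : Subgroup G) := by
      have := hc _ (mem_zpowers _)
      rw [show (c : G) * g * z * ((c : G) * g)⁻¹ = (c : G) * (g * z * g⁻¹) * (c : G)⁻¹ by group]
      exact this
    obtain ⟨n, hn, e⟩ := exists_conj_normalizer (hsa.mem d) (hin z hsa _ hcS)
    have h1 : n⁻¹ * ((c : G) * g) ∈ M := hCM z hsa (mem_centralizer_singleton_iff.2 (by
      calc n⁻¹ * ((c : G) * g) * z = n⁻¹ * ((c : G) * g * z * ((c : G) * g)⁻¹) * ((c : G) * g) := by group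
        _ = z * (n⁻¹ * ((c : G) * g)) := by rw [← e]; group))
    exact (mul_mem_cancel_left c.2).1 ((mul_mem_cancel_left (inv_mem (hNM hn))).1 h1)
  have hMtop : M ≠ ⊤ := by
    intro e
    rcases (normalizer_eq_top_iff.1 e).eq_bot_or_eq_top with h | h
    · exact invol_ne_one hzo (mem_bot.1 (h ▸ hsa.mem d))
    · exact hna (isMulCommutative_iff.2 fun a b => by
        have ha : a ∈ zSub S := h ▸ mem_top a
        have hb : b ∈ zSub S := h ▸ mem_top b
        exact hb.2.2 a ha.1)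
  obtain ⟨H, hH⟩ := CfsgLib.SECrit.criterion_of_critThm CfsgLib.SECrit.critThm M hMtop z hzo
    (hSM (hsa.mem d).1) ⟨S, (hsa.mem d).1, fun s hs => (hsa.mem d).2.2 s hs⟩ hfuse (fun g hg hne => by
      have hgM : g * z * g⁻¹ ∈ M := hCM z hsa (mem_centralizer_singleton_iff.2 hg.symm.eq)
      have hgz : g * z * g⁻¹ ∈ zSub S := (mem_normalizer_iff.1 (hfuse g hgM) z).1 (hsa.mem d)
      obtain ⟨y, hyS, hy, e⟩ := hsa.conj d hgz
      obtain ⟨ho, he⟩ := four_mul hTI S hy₁S hy₁ hyS hy (by rw [e]; exact hne.symm)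
      exact hCM _ ⟨y₁ * y, mul_mem hy₁S hyS, ho, by rw [he, e]⟩)
  obtain ⟨w, hwS, hwC⟩ := d.exists_outside
  have hwo : orderOf w = 2 := invol_iff.2 ⟨(d.outside w hwS hwC).1, fun e => hwC (e ▸ one_mem C)⟩
  obtain ⟨t, htH, hto⟩ : ∃ t ∈ H, orderOf t = 2 := exists_invol_mem hH.2.1
  obtain ⟨v, hvH, hvo⟩ : ∃ v, v ∉ H ∧ orderOf v = 2 := by
    by_contra hall
    push Not at hall
    set Nv := normalClosure ({t} : Set G) with hNv
    have hle : Nv ≤ H := (closure_le _).2 fun r hr => by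
      obtain ⟨s, hs, hc⟩ := Group.mem_conjugatesOfSet_iff.1 hr
      rw [Set.mem_singleton_iff] at hs
      obtain ⟨g, rfl⟩ := isConj_iff.1 hc
      by_contra h
      exact hall _ h (hs ▸ invol_conj hto g)
    rcases (normalClosure_normal (s := ({t} : Set G))).eq_bot_or_eq_top with h | h
    · exact invol_ne_one hto (mem_bot.1 (h ▸ subset_normalClosure (Set.mem_singleton t)))
    · exact hH.1 (top_le_iff.1 (h ▸ hle))
  obtain ⟨g, hg⟩ := isConj_iff.1 ((Cfsg.Agent.S1225.result H hH v hvo hvH t t hto htH hto htH).2 z w hzo hwo)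
  exact hwC (d.zSub_subset (hg ▸ hin z hsa g (hg ▸ hwS)))

/-- A nonabelian Sylow subgroup is dihedral. -/
theorem dihedral : ∃ n, 2 ≤ n ∧ Nonempty ((S : Subgroup G) ≃* DihedralGroup n) := by
  classical
  haveI : Fact (Nat.Prime 2) := ⟨Nat.prime_two⟩
  obtain ⟨y₀, hy₀S, hy₀⟩ := d.exists_four
  set z := y₀ * y₀ with hzd
  have hsz : Sq S z := ⟨y₀, hy₀S, hy₀, rfl⟩
  have hsq : ∀ y ∈ (S : Subgroup G), orderOf y = 4 → y * y = z := fun y hyS hy =>
    sq_unique hTI d hna ⟨y, hyS, hy, rfl⟩ hsz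
  have hzo : orderOf z = 2 := hsz.invol
  have hzz : z * z = 1 := invol_mul_self hzo
  have hzm := hsz.mem d
  have hy₀C := d.four y₀ hy₀S hy₀
  -- central involutions are pairwise nonconjugate
  have hfix : ∀ a ∈ zSub S, ∀ g : G, g * a * g⁻¹ ∈ zSub S → g * a * g⁻¹ = a := by
    intro a ha g hg
    obtain ⟨n, hn, e⟩ := exists_conj_normalizer ha hg
    have hnz : n * z * n⁻¹ = z := by
      obtain ⟨y, hyS, hy, he⟩ := hsz.conj d (conj_mem_zSub_of_normalizer hn hzm)
      rw [← he, hsq y hyS hy]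
    rw [← e, cent_le hTI d hsz (mul_inv_eq_iff_eq_mul.1 hnz) ha, mul_inv_cancel_right]
  -- a conjugate of `z` outside `C`
  have key : ∀ w ∈ (S : Subgroup G), w ∉ C → ∀ g : G, g * z * g⁻¹ = w → g⁻¹ * z * g ∈ (S : Subgroup G) →
      ∀ u ∈ zSub S, g⁻¹ * u * g ∈ C → ∃ r : G, r * (z * u) * r⁻¹ = w * u := by
    intro w hwS hwC g hgw hgz u hu hgu
    have hgo : g⁻¹ * z * g * (g⁻¹ * z * g) = 1 := by
      rw [show g⁻¹ * z * g * (g⁻¹ * z * g) = g⁻¹ * (z * z) * g by group, hzz]; group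
    have hgC : g⁻¹ * z * g ∉ C := fun h => hwC (by
      have h1 := hfix z hzm g⁻¹ (by rw [inv_inv]; exact d.mem_zSub h hgo)
      rw [inv_inv] at h1
      have : g * z * g⁻¹ = z := by nth_rewrite 1 [← h1]; group
      rw [← hgw, this]; exact d.zSub_subset hzm)
    have huo : g⁻¹ * u * g * (g⁻¹ * u * g) = 1 := by
      rw [show g⁻¹ * u * g * (g⁻¹ * u * g) = g⁻¹ * (u * u) * g by group, hu.2.1]; group
    have e1 : y₀ * (g⁻¹ * z * g) * y₀⁻¹ = z * (g⁻¹ * z * g) := by
      have := (d.outside _ hgz hgC).2 y₀⁻¹ (inv_mem hy₀C)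
      rw [inv_inv] at this
      calc y₀ * (g⁻¹ * z * g) * y₀⁻¹
          = y₀ * ((g⁻¹ * z * g) * y₀⁻¹ * (g⁻¹ * z * g)⁻¹) * (g⁻¹ * z * g) := by group
        _ = z * (g⁻¹ * z * g) := by rw [this]
    set x := g * y₀ * g⁻¹ with hx
    have exz : x * z * x⁻¹ = w * z := by
      rw [← hgw, show x * z * x⁻¹ = g * (y₀ * (g⁻¹ * z * g) * y₀⁻¹) * g⁻¹ by rw [hx]; group, e1]; group
    have exu : x * u * x⁻¹ = u := by
      rw [show x * u * x⁻¹ = g * (y₀ * (g⁻¹ * u * g) * y₀⁻¹) * g⁻¹ by rw [hx]; group,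
        (d.mem_zSub hgu huo).2.2 y₀ hy₀S, mul_inv_cancel_right]
      group
    have hw2 : y₀⁻¹ * w * y₀ = z * w := by
      have := (d.outside w hwS hwC).2 y₀ hy₀C
      calc y₀⁻¹ * w * y₀ = y₀⁻¹ * (w * y₀ * w⁻¹) * w := by group
        _ = z⁻¹ * w := by rw [this, hzd, mul_inv_rev]
        _ = z * w := by rw [invol_inv hzo]
    refine ⟨y₀⁻¹ * x, ?_⟩
    calc y₀⁻¹ * x * (z * u) * (y₀⁻¹ * x)⁻¹ = (y₀⁻¹ * (x * z * x⁻¹) * y₀) * (y₀⁻¹ * ((x * u * x⁻¹) * y₀)) := by group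
      _ = (y₀⁻¹ * (w * z) * y₀) * u := by rw [exz, exu, ← hu.2.2 y₀ hy₀S]; group
      _ = (y₀⁻¹ * w * y₀) * (y₀⁻¹ * (z * y₀)) * u := by group
      _ = z * (w * z) * u := by rw [hw2, ← hzm.2.2 y₀ hy₀S]; group
      _ = w * u := by rw [hzm.2.2 w hwS, ← mul_assoc z z, hzz, one_mul]
  -- the frame of an involution outside `C`
  have frame : ∀ e ∈ (S : Subgroup G), e ∉ C → ∀ a ∈ zSub S, ∀ g : G, g * a * g⁻¹ = e → ∃ g' : G,
      g' * a * g'⁻¹ = e ∧ ∀ h ∈ zSub S, g'⁻¹ * h * g' ∈ (S : Subgroup G) := by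
    intro e heS heC a ha g hge
    set K := centralizer ({e} : Set G) with hK
    have hUK : ((g • S : Sylow 2 G) : Subgroup G) ≤ K := fun r hr => by
      refine mem_centralizer_singleton_iff.2 ?_
      calc r * e = g * ((g⁻¹ * r * g) * a) * g⁻¹ := by rw [← hge]; group
        _ = g * (a * (g⁻¹ * r * g)) * g⁻¹ := by rw [ha.2.2 _ (mem_smul.1 hr)]
        _ = e * r := by rw [← hge]; group
    have hZK : zSub S ≤ K := fun h hh => mem_centralizer_singleton_iff.2 (hh.2.2 e heS).symm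
    obtain ⟨c, hc⟩ := exists_conj_le_sylow ((S.2.to_le (zSub_le S)).comap_subtype (K := K))
      ((g • S : Sylow 2 G).subtype hUK)
    refine ⟨(c : G)⁻¹ * g, ?_, fun h hh => ?_⟩
    · rw [show (c : G)⁻¹ * g * a * ((c : G)⁻¹ * g)⁻¹ = (c : G)⁻¹ * (g * a * g⁻¹) * c by group, hge,
        mul_assoc, ← mem_centralizer_singleton_iff.1 c.2, inv_mul_cancel_left]
    · have := mem_smul.1 (hc ⟨h, hZK hh⟩ hh)
      simpa [mul_assoc] using this
  -- two conjugates of `z` outside `C` differing by a central involution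
  have pair : ∀ w ∈ (S : Subgroup G), w ∉ C → IsConj z w → ∀ h ∈ zSub S, IsConj z (w * h) → h = 1 ∨ h = z := by
    intro w hwS hwC hcw h hh hch
    obtain ⟨g₀, hg₀⟩ := isConj_iff.1 hcw
    obtain ⟨g, hgw, hg⟩ := frame w hwS hwC z hzm g₀ hg₀
    have fin : ∀ u ∈ zSub S, g⁻¹ * u * g ∈ C → IsConj z (w * u) → u = 1 := by
      intro u hu hgu hc
      obtain ⟨r, hr⟩ := key w hwS hwC g hgw (hg z hzm) u hu hgu
      obtain ⟨t, ht⟩ := isConj_iff.1 (hc.trans (isConj_iff.2 ⟨r, hr⟩).symm)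
      have := hfix z hzm t (ht ▸ mul_mem hzm hu)
      rw [ht] at this
      exact mul_eq_left.1 this
    by_cases hgh : g⁻¹ * h * g ∈ C
    · exact Or.inl (fin h hh hgh hch)
    refine Or.inr ?_
    have hgzh : g⁻¹ * (z * h) * g ∈ C := by
      have hgzC : g⁻¹ * z * g ∉ C := by
        intro hc
        have h1 := hfix z hzm g⁻¹ (by
          rw [inv_inv]; exact d.mem_zSub hc (by
            rw [show g⁻¹ * z * g * (g⁻¹ * z * g) = g⁻¹ * (z * z) * g by group, hzz]; group))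
        rw [inv_inv] at h1
        refine hwC ?_
        rw [← hgw, show g * z * g⁻¹ = z by nth_rewrite 1 [← h1]; group]
        exact d.zSub_subset hzm
      have := d.mul_mem_of_outside (hg z hzm) hgzC (hg h hh) hgh
      simpa [mul_assoc] using this
    have hw2 : y₀ * (w * h) * y₀⁻¹ = w * (z * h) := by
      have := (d.outside w hwS hwC).2 y₀⁻¹ (inv_mem hy₀C)
      rw [inv_inv] at this
      calc y₀ * (w * h) * y₀⁻¹ = (y₀ * (w * y₀⁻¹ * w⁻¹) * w) * (y₀ * h * y₀⁻¹) := by group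
        _ = z * w * h := by rw [this, hh.2.2 y₀ hy₀S, mul_inv_cancel_right]
        _ = w * (z * h) := by rw [← hzm.2.2 w hwS, mul_assoc]
    have := fin (z * h) (mul_mem hzm hh) hgzh (hch.trans (isConj_iff.2 ⟨y₀, hw2⟩))
    rw [← inv_eq_of_mul_eq_one_right this, invol_inv hzo]
  -- a conjugate outside `C` of a central involution
  have outside : ∀ v ∈ zSub S, ∀ e ∈ (S : Subgroup G), e ∉ C → IsConj v e → v ≠ z →
      ∃ w ∈ (S : Subgroup G), w ∉ C ∧ IsConj z w ∧ e = w * (z * v) := by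
    intro v hv e heS heC hve hvz
    obtain ⟨g₀, hg₀⟩ := isConj_iff.1 hve
    obtain ⟨g, hge, hg⟩ := frame e heS heC v hv g₀ hg₀
    have hgeS : g⁻¹ * e * g ∈ (S : Subgroup G) := by rw [← hge]; simpa [mul_assoc] using hv.1
    let E : Set G := (zSub S : Set G) ∪ (fun h => e * h) '' (zSub S : Set G)
    have hEd : Disjoint (zSub S : Set G) ((fun h => e * h) '' (zSub S : Set G)) :=
      Set.disjoint_left.2 fun a ha ⟨b, hb, (hab : e * b = a)⟩ =>
        heC ((mul_mem_cancel_right (d.zSub_subset hb)).1 (show e * b ∈ C by rw [hab]; exact d.zSub_subset ha))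
    have hEcard : E.ncard = 2 * (zSub S : Set G).ncard := by
      rw [Set.ncard_union_eq hEd (Set.toFinite _) (Set.toFinite _),
        Set.ncard_image_of_injective _ (mul_right_injective e), two_mul]
    have hES : ∀ a ∈ E, g⁻¹ * a * g ∈ (S : Subgroup G) := by
      rintro a (ha | ⟨h, hh, rfl⟩)
      · exact hg a ha
      · rw [show g⁻¹ * (e * h) * g = (g⁻¹ * e * g) * (g⁻¹ * h * g) by group]; exact mul_mem hgeS (hg h hh)
    have hE2 : ∀ a ∈ E, a * a = 1 := by
      rintro a (ha | ⟨h, hh, rfl⟩)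
      · exact ha.2.1
      · rw [(show Commute h e from (hh.2.2 e heS).symm).mul_mul_mul_comm, hh.2.1, (d.outside e heS heC).1, one_mul]
    have hEc : ∀ a ∈ E, ∀ b ∈ E, a * b = b * a := by
      have h1 : ∀ a ∈ E, a ∈ (S : Subgroup G) := by
        rintro a (ha | ⟨h, hh, rfl⟩)
        exacts [ha.1, mul_mem heS hh.1]
      rintro a (ha | ⟨h, hh, rfl⟩) b hb
      · exact (ha.2.2 b (h1 b hb)).symm
      rcases hb with hb | ⟨h', hh', rfl⟩
      · exact hb.2.2 _ (mul_mem heS hh.1)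
      · show Commute (e * h) (e * h')
        exact ((Commute.refl e).mul_right (hh'.2.2 e heS)).mul_left
          ((hh.2.2 e heS).symm |> fun (h2 : Commute h e) => h2.mul_right (hh'.2.2 h hh.1))
    have hci : Function.Injective (fun a => g⁻¹ * a * g) := fun a b h =>
      mul_left_cancel (mul_right_cancel h)
    -- the image of `E` is not inside `C`
    obtain ⟨a₀, ha₀, ha₀C⟩ : ∃ a ∈ E, g⁻¹ * a * g ∉ C := by
      by_contra hcon
      push Not at hcon
      have hsub : (fun a => g⁻¹ * a * g) '' E ⊆ (zSub S : Set G) := by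
        rintro _ ⟨a, ha, rfl⟩
        exact d.mem_zSub (hcon a ha) (by
          rw [show g⁻¹ * a * g * (g⁻¹ * a * g) = g⁻¹ * (a * a) * g by group, hE2 a ha]; group)
      have h1 := Set.ncard_le_ncard hsub (Set.toFinite _)
      rw [Set.ncard_image_of_injective _ hci, hEcard] at h1
      have h2 : 0 < (zSub S : Set G).ncard := (Set.ncard_pos (Set.toFinite _)).2 ⟨1, one_mem _⟩
      omega
    set s₀ := g⁻¹ * a₀ * g with hs₀
    have himg : (fun a => g⁻¹ * a * g) '' E = (zSub S : Set G) ∪ (fun h => s₀ * h) '' (zSub S : Set G) := by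
      refine Set.eq_of_subset_of_ncard_le ?_ ?_ (Set.toFinite _)
      · rintro _ ⟨a, ha, rfl⟩
        have hsq2 : g⁻¹ * a * g * (g⁻¹ * a * g) = 1 := by
          rw [show g⁻¹ * a * g * (g⁻¹ * a * g) = g⁻¹ * (a * a) * g by group, hE2 a ha]; group
        by_cases hC : g⁻¹ * a * g ∈ C
        · exact Or.inl (d.mem_zSub hC hsq2)
        · refine Or.inr ⟨g⁻¹ * (a₀ * a) * g, d.mem_zSub ?_ ?_, ?_⟩
          · have := d.mul_mem_of_outside (hES a₀ ha₀) ha₀C (hES a ha) hC
            simpa [mul_assoc] using this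
          · rw [show g⁻¹ * (a₀ * a) * g * (g⁻¹ * (a₀ * a) * g) = g⁻¹ * (a₀ * a * (a₀ * a)) * g by group,
              (show Commute a a₀ from hEc a ha a₀ ha₀).mul_mul_mul_comm, hE2 a₀ ha₀, hE2 a ha]
            group
          · show s₀ * (g⁻¹ * (a₀ * a) * g) = g⁻¹ * a * g
            rw [hs₀, show g⁻¹ * a₀ * g * (g⁻¹ * (a₀ * a) * g) = g⁻¹ * (a₀ * a₀) * a * g by group, hE2 a₀ ha₀,
              mul_one]
      · rw [Set.ncard_image_of_injective _ hci, hEcard, two_mul]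
        refine (Set.ncard_union_le _ _).trans (le_of_eq ?_)
        rw [Set.ncard_image_of_injective _ (mul_right_injective s₀)]
    obtain ⟨w, hwE, hwz⟩ := himg.ge (Or.inl hzm : z ∈ _ ∪ _)
    have hgw : g * z * g⁻¹ = w := by rw [← hwz]; group
    rcases hwE with hwH | ⟨h₀, hh₀, rfl⟩
    · exfalso
      have hw' : w = z := hgw ▸ hfix z hzm g (hgw.symm ▸ hwH)
      rw [hw'] at hgw
      rw [← hge, cent_le hTI d hsz (mul_inv_eq_iff_eq_mul.1 hgw) hv, mul_inv_cancel_right] at heC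
      exact heC (d.zSub_subset hv)
    change g * z * g⁻¹ = e * h₀ at hgw
    have hwS : e * h₀ ∈ (S : Subgroup G) := mul_mem heS hh₀.1
    have hwC : e * h₀ ∉ C := fun h => heC ((mul_mem_cancel_right (d.zSub_subset hh₀)).1 h)
    have hgh₀ : g⁻¹ * h₀ * g = v * z := by
      calc g⁻¹ * h₀ * g = g⁻¹ * e⁻¹ * ((e * h₀) * g) := by group
        _ = g⁻¹ * e⁻¹ * (g * z) := by rw [← hgw]; group
        _ = v⁻¹ * z := by rw [← hge]; group
        _ = v * z := by rw [inv_eq_of_mul_eq_one_left hv.2.1]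
    obtain ⟨r, hr⟩ := key (e * h₀) hwS hwC g hgw (hg z hzm) h₀ hh₀
      (hgh₀ ▸ mul_mem (d.zSub_subset hv) (d.zSub_subset hzm))
    rw [mul_assoc e h₀ h₀, hh₀.2.1, mul_one] at hr
    obtain ⟨t, ht⟩ := isConj_iff.1 (hve.trans (isConj_iff.2 ⟨r, hr⟩).symm)
    have hv' := hfix v hv t (ht ▸ mul_mem hzm hh₀)
    rw [ht] at hv'
    refine ⟨e * h₀, hwS, hwC, isConj_iff.2 ⟨g, hgw⟩, ?_⟩
    rw [← hv', ← mul_assoc z z, hzz, one_mul, mul_assoc, hh₀.2.1, mul_one]
  -- squares of `C`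
  let Q : Subgroup G :=
    { carrier := {x | ∃ c ∈ C, c * c = x}
      one_mem' := ⟨1, one_mem C, one_mul 1⟩
      mul_mem' := by
        rintro _ _ ⟨a, ha, rfl⟩ ⟨b, hb, rfl⟩
        exact ⟨a * b, mul_mem ha hb, (show Commute b a from d.comm b hb a ha).mul_mul_mul_comm a b⟩
      inv_mem' := by
        rintro _ ⟨a, ha, rfl⟩
        exact ⟨a⁻¹, inv_mem ha, (mul_inv_rev a a).symm⟩ }
  have hQC : Q ≤ C := by rintro _ ⟨c, hc, rfl⟩; exact mul_mem hc hc
  have hQinv : ∀ x ∈ Q, x * x = 1 → x = 1 ∨ x = z := by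
    rintro _ ⟨c, hc, rfl⟩ hcc
    by_cases h : c * c = 1
    · exact Or.inl h
    · exact Or.inr (hsq c (d.le hc) (orderOf_four h hcc))
  obtain ⟨c₀, hc₀, hgen⟩ : ∃ c₀ ∈ C, ∀ c ∈ C, ∃ i : ℤ, (c₀ ^ i)⁻¹ * c ∈ zSub S := by
    have hQ2 : IsPGroup 2 Q := (S.2.to_le (hQC.trans d.le))
    have hu : CfsgLib.Coprime.UniqueOrderP 2 Q := by
      intro a b ha hb ha1
      rw [pow_two] at ha hb
      rcases hQinv a a.2 (congrArg Subtype.val ha) with h | h
      · exact absurd (Subtype.ext h) ha1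
      rcases hQinv b b.2 (congrArg Subtype.val hb) with h' | h'
      · rw [show b = 1 from Subtype.ext h']; exact one_mem _
      · rw [show b = a from Subtype.ext (h'.trans h.symm)]; exact mem_zpowers a
    have hcyc : IsCyclic Q := by
      rcases CfsgLib.Coprime.cyclic_or_quaternion_of_unique_two hQ2 hu with hc | ⟨n, ⟨e⟩⟩
      · exact hc
      rcases Nat.eq_zero_or_pos n with rfl | hn
      · haveI := QuaternionGroup.quaternionGroup_one_isCyclic
        exact isCyclic_of_surjective e.symm.toMonoidHom e.symm.surjective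
      exfalso
      have hcm : ∀ a b : Q, a * b = b * a := fun a b => Subtype.ext (d.comm _ (hQC a.2) _ (hQC b.2))
      have h := congrArg e (hcm (e.symm (QuaternionGroup.a 1)) (e.symm (QuaternionGroup.xa 0)))
      rw [map_mul, map_mul, e.apply_symm_apply, e.apply_symm_apply, QuaternionGroup.a_mul_xa,
        QuaternionGroup.xa_mul_a, zero_sub, zero_add, QuaternionGroup.xa.injEq] at h
      have h2 : ((2 : ℕ) : ZMod (2 * 2 ^ n)) = 0 := by
        push_cast
        linear_combination -h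
      rw [ZMod.natCast_eq_zero_iff] at h2
      have := Nat.le_of_dvd two_pos h2
      have : 2 ≤ 2 ^ n := Nat.le_self_pow hn.ne' 2
      omega
    obtain ⟨⟨_, c₀, hc₀, rfl⟩, hc⟩ := hcyc.exists_generator
    refine ⟨c₀, hc₀, fun c hcC => ?_⟩
    obtain ⟨i, hi⟩ := mem_zpowers_iff.1 (hc ⟨c * c, c, hcC, rfl⟩)
    have hi' : (c₀ * c₀) ^ i = c * c := congrArg Subtype.val hi
    refine ⟨i, d.mem_zSub (mul_mem (inv_mem (zpow_mem hc₀ i)) hcC) ?_⟩
    rw [(show Commute c (c₀ ^ i)⁻¹ from d.comm c hcC _ (inv_mem (zpow_mem hc₀ i))).mul_mul_mul_comm, ← hi',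
      (Commute.refl c₀).mul_zpow]
    group
  have hzQ : z ∈ Q := ⟨y₀, hy₀C, hzd.symm⟩
  -- differences of conjugates of `z` lie in the squares as soon as they do so modulo the centre
  have diff : ∀ w ∈ (S : Subgroup G), w ∉ C → IsConj z w → ∀ w' ∈ (S : Subgroup G), w' ∉ C → IsConj z w' →
      (∃ q ∈ Q, ∃ h ∈ zSub S, w * w' = q * h) → w * w' ∈ Q := by
    rintro w hwS hwC hw w' hw'S hw'C hw' ⟨_, ⟨c, hc, rfl⟩, h, hh, e⟩
    have hci : w' * c⁻¹ = c * w' := by
      have := (d.outside w' hw'S hw'C).2 c⁻¹ (inv_mem hc)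
      rw [inv_inv] at this
      exact mul_inv_eq_iff_eq_mul.1 this
    have e' : c⁻¹ * w * c = w' * h := by
      have hw1 : w = c * c * h * w' := by rw [← e, mul_assoc, (d.outside w' hw'S hw'C).1, mul_one]
      rw [hw1]
      calc c⁻¹ * (c * c * h * w') * c = c * (h * (w' * c)) := by group
        _ = (c * h) * (c⁻¹ * w') := by
          rw [show w' * c = c⁻¹ * w' from mul_inv_eq_iff_eq_mul.1 ((d.outside w' hw'S hw'C).2 c hc)]; group
        _ = w' * h := by rw [hh.2.2 c (d.le hc), mul_assoc, mul_inv_cancel_left, hh.2.2 w' hw'S]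
    rcases pair w' hw'S hw'C hw' h hh (hw.trans (isConj_iff.2 ⟨c⁻¹, by rw [inv_inv, e']⟩)) with rfl | rfl
    · exact ⟨c, hc, by rw [e, mul_one]⟩
    · rw [e]; exact mul_mem ⟨c, hc, rfl⟩ hzQ
  -- no further central involution
  have hzS : ∀ v ∈ zSub S, v = 1 ∨ v = z := by
    intro v hv
    by_contra hv'
    push Not at hv'
    obtain ⟨hv1, hvz⟩ := hv'
    have hvQ : v ∉ Q := fun h => (hQinv v h hv.2.1).elim hv1 hvz
    obtain ⟨s₁, hs₁S, hs₁C⟩ := d.exists_outside
    obtain ⟨w₀, hw₀S, hw₀C, hW₀⟩ : ∃ w₀ ∈ (S : Subgroup G), w₀ ∉ C ∧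
        ∀ w ∈ (S : Subgroup G), w ∉ C → IsConj z w → IsConj z w₀ := by
      by_cases h : ∃ w ∈ (S : Subgroup G), w ∉ C ∧ IsConj z w
      · obtain ⟨w, h1, h2, h3⟩ := h
        exact ⟨w, h1, h2, fun _ _ _ _ => h3⟩
      · exact ⟨s₁, hs₁S, hs₁C, fun w h1 h2 h3 => absurd ⟨w, h1, h2, h3⟩ h⟩
    -- parity modulo squares and central involutions
    have hpar : ∀ a ∈ C, (¬ ∃ q ∈ Q, ∃ h ∈ zSub S, a = q * h) → ∀ b ∈ C, (¬ ∃ q ∈ Q, ∃ h ∈ zSub S, b = q * h) →
        ∃ q ∈ Q, ∃ h ∈ zSub S, a * b⁻¹ = q * h := by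
      intro a ha hna' b hb hnb
      obtain ⟨i, hi⟩ := hgen a ha
      obtain ⟨j, hj⟩ := hgen b hb
      have hev : ∀ (i : ℤ), Even i → c₀ ^ i ∈ Q := fun i ⟨k, hk⟩ => ⟨c₀ ^ k, zpow_mem hc₀ k, by rw [← zpow_add, hk]⟩
      have hodd : ∀ (i : ℤ) (a : G), (c₀ ^ i)⁻¹ * a ∈ zSub S → (¬ ∃ q ∈ Q, ∃ h ∈ zSub S, a = q * h) → Odd i :=
        fun i a h hn => Int.not_even_iff_odd.1 fun he => hn ⟨_, hev i he, _, h, (mul_inv_cancel_left _ _).symm⟩
      refine ⟨c₀ ^ (i - j), hev _ ((hodd i a hi hna').sub_odd (hodd j b hj hnb)),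
        ((c₀ ^ i)⁻¹ * a) * ((c₀ ^ j)⁻¹ * b)⁻¹, mul_mem hi (inv_mem hj), ?_⟩
      have hcb : Commute a (c₀ ^ (-j)) := d.comm a ha _ (zpow_mem hc₀ _)
      rw [zpow_sub, mul_inv_rev, inv_inv]
      have hcab : Commute ((c₀ ^ j)⁻¹) a := d.comm _ (inv_mem (zpow_mem hc₀ j)) a ha
      have hcb' : Commute b⁻¹ (c₀ ^ j) := d.comm _ (inv_mem hb) _ (zpow_mem hc₀ j)
      calc a * b⁻¹ = a * ((c₀ ^ j)⁻¹ * (c₀ ^ j)) * b⁻¹ := by group
        _ = ((c₀ ^ j)⁻¹ * a) * (b⁻¹ * c₀ ^ j) := by rw [hcab.eq, hcb'.eq]; group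
        _ = _ := by
          rw [show c₀ ^ i * (c₀ ^ j)⁻¹ = (c₀ ^ j)⁻¹ * c₀ ^ i from
            d.comm _ (zpow_mem hc₀ i) _ (inv_mem (zpow_mem hc₀ j))]
          group
    obtain ⟨c₁, hc₁C, hc₁Q, hWc⟩ : ∃ c₁ ∈ C, (c₁ = 1 ∨ ¬ ∃ q ∈ Q, ∃ h ∈ zSub S, c₁ = q * h) ∧
        ∀ w ∈ (S : Subgroup G), w ∉ C → IsConj z w → w * w₀ ∈ Q ∨ w * w₀ * c₁⁻¹ ∈ Q := by
      by_cases h : ∃ w ∈ (S : Subgroup G), w ∉ C ∧ IsConj z w ∧ w * w₀ ∉ Q
      · obtain ⟨w₁, h1, h2, h3, h4⟩ := h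
        have hn : ¬ ∃ q ∈ Q, ∃ h ∈ zSub S, w₁ * w₀ = q * h := fun hh =>
          h4 (diff w₁ h1 h2 h3 w₀ hw₀S hw₀C (hW₀ w₁ h1 h2 h3) hh)
        refine ⟨w₁ * w₀, d.mul_mem_of_outside h1 h2 hw₀S hw₀C, Or.inr hn, fun w hwS hwC hw => ?_⟩
        by_cases h5 : w * w₀ ∈ Q
        · exact Or.inl h5
        refine Or.inr ?_
        have e : w * w₀ * (w₁ * w₀)⁻¹ = w * w₁ := by
          rw [mul_inv_rev, inv_eq_of_mul_eq_one_left (d.outside w₁ h1 h2).1,
            inv_eq_of_mul_eq_one_left (d.outside w₀ hw₀S hw₀C).1, mul_assoc, ← mul_assoc w₀,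
            (d.outside w₀ hw₀S hw₀C).1, one_mul]
        rw [e]
        exact diff w hwS hwC hw w₁ h1 h2 h3 (e ▸ hpar _ (d.mul_mem_of_outside hwS hwC hw₀S hw₀C)
          (fun hh => h5 (diff w hwS hwC hw w₀ hw₀S hw₀C (hW₀ w hwS hwC hw) hh)) _
          (d.mul_mem_of_outside h1 h2 hw₀S hw₀C) hn)
      · push Not at h
        exact ⟨1, one_mem C, Or.inl rfl, fun w h1 h2 h3 => Or.inl (h w h1 h2 h3)⟩
    set C₀ := Q ⊔ zpowers c₁ with hC₀
    have hC₀C : C₀ ≤ C := sup_le hQC (zpowers_le.2 hc₁C)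
    have hvC₀ : v ∉ C₀ := by
      intro h
      have hn : zpowers c₁ ≤ normalizer (Q : Set G) := by
        rw [zpowers_le]
        refine (mem_normalizer_iff).2 fun q => ⟨fun hq => ?_, fun hq => ?_⟩
        · rwa [d.comm c₁ hc₁C q (hQC hq), mul_inv_cancel_right]
        · have := d.comm c₁⁻¹ (inv_mem hc₁C) _ (hQC hq)
          have e : q = c₁ * q * c₁⁻¹ := by
            calc q = c₁⁻¹ * (c₁ * q * c₁⁻¹) * c₁ := by group
              _ = c₁ * q * c₁⁻¹ := by rw [this]; group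
          rw [e]; exact hq
      have h' : v ∈ ((Q ⊔ zpowers c₁ : Subgroup G) : Set G) := h
      rw [Subgroup.coe_mul_of_right_le_normalizer_left Q _ hn] at h'
      obtain ⟨q, hq, r, hr, hqr : q * r = v⟩ := h'
      obtain ⟨i, rfl⟩ := mem_zpowers_iff.1 hr
      have hsq' : ∀ k : ℤ, c₁ ^ (2 * k) ∈ Q := fun k => ⟨c₁ ^ k, zpow_mem hc₁C k, by rw [← zpow_add, two_mul]⟩
      rcases hc₁Q with rfl | hn1
      · rw [one_zpow, mul_one] at hqr; exact hvQ (hqr ▸ hq)
      rcases Int.even_or_odd' i with ⟨k, rfl | rfl⟩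
      · exact hvQ (hqr ▸ mul_mem hq (hsq' k))
      · refine hn1 ⟨(q * c₁ ^ (2 * k))⁻¹, inv_mem (mul_mem hq (hsq' k)), v, hv, ?_⟩
        rw [← hqr, zpow_add, zpow_one]; group
    have hw₀o := (d.outside w₀ hw₀S hw₀C).1
    have hflip : ∀ a ∈ C, w₀ * a = a⁻¹ * w₀ := fun a ha => mul_inv_eq_iff_eq_mul.1 ((d.outside w₀ hw₀S hw₀C).2 a ha)
    let F : Subgroup G :=
      { carrier := {x | x ∈ C₀ ∨ x * w₀ ∈ C₀}
        one_mem' := Or.inl (one_mem _)
        mul_mem' := by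
          rintro a b (ha | ha) (hb | hb)
          · exact Or.inl (mul_mem ha hb)
          · exact Or.inr (by rw [mul_assoc]; exact mul_mem ha hb)
          · refine Or.inr ?_
            have e : a * b * w₀ = (a * w₀) * b⁻¹ := by
              calc a * b * w₀ = a * (b * w₀) := mul_assoc _ _ _
                _ = a * (w₀ * b⁻¹) := by rw [hflip b⁻¹ (inv_mem (hC₀C hb)), inv_inv]
                _ = a * w₀ * b⁻¹ := (mul_assoc _ _ _).symm
            rw [e]; exact mul_mem ha (inv_mem hb)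
          · refine Or.inl ?_
            have e : a * b = (a * w₀) * (b * w₀)⁻¹ := by
              calc a * b = a * ((w₀ * w₀) * b * (w₀ * w₀)) := by rw [hw₀o]; group
                _ = a * w₀ * ((w₀ * (b * w₀)) * w₀) := by group
                _ = a * w₀ * (b * w₀)⁻¹ := by rw [hflip _ (hC₀C hb), mul_assoc (b * w₀)⁻¹, hw₀o, mul_one]
            rw [e]; exact mul_mem ha (inv_mem hb)
        inv_mem' := by
          rintro a (ha | ha)
          · exact Or.inl (inv_mem ha)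
          · refine Or.inr ?_
            have e1 : a * a = 1 := by
              calc a * a = (a * w₀ * w₀) * (a * w₀ * w₀) := by rw [mul_assoc a, hw₀o, mul_one]
                _ = a * w₀ * (w₀ * (a * w₀)) * w₀ := by group
                _ = 1 := by rw [hflip _ (hC₀C ha), ← mul_assoc (a * w₀), mul_inv_cancel, one_mul, hw₀o]
            have e : a⁻¹ * w₀ = a * w₀ := by rw [inv_eq_of_mul_eq_one_left e1]
            rw [e]; exact ha }
    have hvF : v ∉ F := fun h => h.elim hvC₀ fun h1 =>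
      hw₀C ((mul_mem_cancel_left (d.zSub_subset hv)).1 (hC₀C h1))
    -- a maximal subgroup avoiding `v`
    obtain ⟨M, ⟨hFM, hMS, hvM⟩, hmax⟩ := exists_maximal_of_wellFoundedGT
      (fun M : Subgroup G => F ≤ M ∧ M ≤ (S : Subgroup G) ∧ v ∉ M)
      ⟨F, le_rfl, fun x hx => hx.elim (fun h => d.le (hC₀C h)) fun h => by
        have := mul_mem (d.le (hC₀C h)) (inv_mem hw₀S); rwa [mul_inv_cancel_right] at this, hvF⟩
    have hsqM : ∀ a ∈ (S : Subgroup G), a * a ∈ M := fun a ha => hFM (Or.inl (by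
      by_cases hC : a ∈ C
      · exact mem_sup_left ⟨a, hC, rfl⟩
      · rw [(d.outside a ha hC).1]; exact one_mem _))
    have hnormM : ∀ a ∈ (S : Subgroup G), ∀ m ∈ M, a * m * a⁻¹ ∈ M := fun a ha m hm => by
      have := mul_mem (mul_mem (hsqM _ (mul_mem ha (hMS hm))) (inv_mem hm)) (inv_mem (hsqM a ha))
      rwa [show a * m * (a * m) * m⁻¹ * (a * a)⁻¹ = a * m * a⁻¹ by group] at this
    have hcover : ∀ a ∈ (S : Subgroup G), a ∈ M ∨ v * a ∈ M := by
      intro a ha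
      by_contra hcon
      push Not at hcon
      obtain ⟨haM, hvaM⟩ := hcon
      let M' : Subgroup G :=
        { carrier := {x | x ∈ M ∨ x * a⁻¹ ∈ M}
          one_mem' := Or.inl (one_mem _)
          mul_mem' := by
            rintro p q (hp | hp) (hq | hq)
            · exact Or.inl (mul_mem hp hq)
            · exact Or.inr (by rw [mul_assoc]; exact mul_mem hp hq)
            · refine Or.inr ?_
              have := mul_mem hp (hnormM a ha q hq)
              rwa [show p * a⁻¹ * (a * q * a⁻¹) = p * q * a⁻¹ by group] at this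
            · refine Or.inl ?_
              have := mul_mem (mul_mem hp (hnormM a ha _ hq)) (hsqM a ha)
              rwa [show p * a⁻¹ * (a * (q * a⁻¹) * a⁻¹) * (a * a) = p * q by group] at this
          inv_mem' := by
            rintro p (hp | hp)
            · exact Or.inl (inv_mem hp)
            · refine Or.inr ?_
              have := hnormM a⁻¹ (inv_mem ha) _ (inv_mem hp)
              have h2 := mul_mem this (inv_mem (hsqM a ha))
              rwa [show a⁻¹ * (p * a⁻¹)⁻¹ * a⁻¹⁻¹ * (a * a)⁻¹ = p⁻¹ * a⁻¹ by group] at h2 }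
      have hMM : M ≤ M' := fun x hx => Or.inl hx
      have haM' : a ∈ M' := Or.inr (by rw [mul_inv_cancel]; exact one_mem _)
      by_cases hvM' : v ∈ M'
      · rcases hvM' with h | h
        · exact hvM h
        · refine hvaM ?_
          have := mul_mem h (hsqM a ha)
          rwa [show v * a⁻¹ * (a * a) = v * a by group] at this
      · exact haM ((hmax ⟨hFM.trans hMM, fun x hx => hx.elim (fun h => hMS h) fun h => by
          have := mul_mem (hMS h) ha; rwa [inv_mul_cancel_right] at this, hvM'⟩ hMM) haM')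
    have hrel : M.relIndex (S : Subgroup G) = 2 := by
      refine index_eq_two_iff'.2 ⟨⟨v, hv.1⟩, fun b => ?_⟩
      rcases hcover b b.2 with h | h
      · exact Or.inr ⟨h, fun h' => hvM ((mul_mem_cancel_right h).1 h')⟩
      · exact Or.inl ⟨h, fun h' => hvM ((mul_mem_cancel_right (show (b : G) ∈ M from h')).1 h)⟩
    obtain ⟨N, hN, hN2, -⟩ := CfsgLib.Fusion.thompson_transfer S hMS hrel (u := v)
      (by rw [pow_two]; exact hv.2.1) fun g hg => by
        have hgS := hMS hg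
        have hgo : g * v * g⁻¹ * (g * v * g⁻¹) = 1 := by
          rw [show g * v * g⁻¹ * (g * v * g⁻¹) = g * (v * v) * g⁻¹ by group, hv.2.1]; group
        by_cases hgC : g * v * g⁻¹ ∈ C
        · rw [hfix v hv g (d.mem_zSub hgC hgo)] at hg; exact hvM hg
        obtain ⟨w, hwS, hwC, hw, he⟩ := outside v hv _ hgS hgC (isConj_iff.2 ⟨g, rfl⟩) hvz
        refine hvM ?_
        have hwM : w ∈ M := hFM (Or.inr (by
          rcases hWc w hwS hwC hw with h | h
          · exact mem_sup_left h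
          · have h1 := mul_mem (mem_sup_left h : _ ∈ C₀) (mem_sup_right (mem_zpowers c₁) : c₁ ∈ C₀)
            rwa [inv_mul_cancel_right] at h1))
        have hzM : z ∈ M := hFM (Or.inl (mem_sup_left hzQ))
        have h1 := mul_mem (mul_mem (inv_mem hzM) (inv_mem hwM)) hg
        rwa [he, show z⁻¹ * w⁻¹ * (w * (z * v)) = v by group] at h1
    exact CfsgLib.CIT.index_ne_two_of_simple hna N hN hN2
  -- so `C` is cyclic
  have hC2 : IsPGroup 2 C := S.2.to_le d.le
  have hCcyc : IsCyclic C := by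
    refine isCyclic_iff_exists_zpowers_eq_top.2 ⟨⟨c₀, hc₀⟩, eq_top_iff.2 fun c _ => ?_⟩
    obtain ⟨i, hi⟩ := hgen c c.2
    have hz' : z ∈ zpowers c₀ := by
      have hc₀2 : c₀ * c₀ ≠ 1 := fun e => by
        obtain ⟨j, hj⟩ := hgen y₀ hy₀C
        have h1 : c₀ ^ j ∈ zSub S := d.mem_zSub (zpow_mem hc₀ j) (by
          rw [← (Commute.refl c₀).mul_zpow, e, one_zpow])
        have h2 := mul_mem h1 hj
        rw [mul_inv_cancel_left] at h2
        exact four_ne_inv hy₀ (eq_inv_of_mul_eq_one_left h2.2.1)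
      obtain ⟨k, hk⟩ := two_elt S (d.le hc₀)
      obtain ⟨p, hp, hpo⟩ := CfsgLib.TICyclic.exists_four hk hc₀2
      have hpS : p ∈ (S : Subgroup G) := (zpowers_le.2 (d.le hc₀)) hp
      rw [← hsq p hpS hpo]
      exact mul_mem hp hp
    have hc : (c : G) ∈ zpowers c₀ := by
      rcases hzS _ hi with h | h
      · rw [← inv_mul_eq_one.1 h]; exact zpow_mem (mem_zpowers c₀) i
      · rw [inv_mul_eq_iff_eq_mul.1 h]; exact mul_mem (zpow_mem (mem_zpowers c₀) i) hz'
    obtain ⟨j, hj⟩ := mem_zpowers_iff.1 hc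
    exact mem_zpowers_iff.2 ⟨j, Subtype.ext (by simpa using hj)⟩
  obtain ⟨s₁, hs₁S, hs₁C⟩ := d.exists_outside
  let C' := C.subgroupOf (S : Subgroup G)
  let eC : C' ≃* C := subgroupOfEquivOfLe d.le
  have hidx : C'.index = 2 := by
    refine index_eq_two_iff'.2 ⟨⟨s₁, hs₁S⟩, fun b => ?_⟩
    by_cases hb : (b : G) ∈ C
    · exact Or.inr ⟨hb, fun h => hs₁C ((mul_mem_cancel_right hb).1 h)⟩
    · exact Or.inl ⟨d.mul_mem_of_outside hs₁S hs₁C b.2 hb, hb⟩
  obtain ⟨e⟩ := CfsgLib.Perm.Dickson.mulEquiv_dihedral (C := C') (isCyclic_of_surjective eC.symm.toMonoidHom eC.symm.surjective)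
    (by rw [← C'.card_mul_index, hidx, mul_comm]) fun g hg => Subtype.ext (d.outside g g.2 hg).1
  refine ⟨Nat.card C', ?_, ⟨e⟩⟩
  have h4 := orderOf_dvd_natCard (⟨⟨y₀, hy₀S⟩, hy₀C⟩ : C')
  rw [← Subgroup.orderOf_coe, ← Subgroup.orderOf_coe, hy₀] at h4
  have := Nat.le_of_dvd Nat.card_pos h4
  omega

end CfsgLib.TICyclic
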