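import Cfsg.Agent.Lib.Invol.TICyclic.Sylow
import Mathlib.GroupTheory.SpecificGroups.Quaternion

/-!
# Cyclic two-subgroups with trivial intersections: the Sylow subgroup is generalised dihedral
-/

set_option autoImplicit false
set_option linter.style.haveILetI false
set_option linter.unusedSectionVars false

open Subgroup

namespace CfsgLib.TICyclic

open CfsgLib.Invol

universe u

variable {G : Type u} [Group G] [Finite G]

/-- A generalised dihedral structure on `S` over `C`. -/
structure GenDih (S : Sylow 2 G) (C : Subgroup G) : Prop where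
  le : C ≤ (S : Subgroup G)
  comm : ∀ a ∈ C, ∀ b ∈ C, a * b = b * a
  four : ∀ y ∈ (S : Subgroup G), orderOf y = 4 → y ∈ C
  outside : ∀ s ∈ (S : Subgroup G), s ∉ C → s * s = 1 ∧ ∀ c ∈ C, s * c * s⁻¹ = c⁻¹
  exists_outside : ∃ s ∈ (S : Subgroup G), s ∉ C
  exists_four : ∃ y ∈ (S : Subgroup G), orderOf y = 4

variable (hTI : CycTI G) [IsSimpleGroup G] (hna : ¬ IsMulCommutative G) (S : Sylow 2 G)
include hTI hna

omit hna in
theorem no_mixed {s x y : G} (hs : s ∈ (S : Subgroup G)) (hxS : x ∈ (S : Subgroup G)) (hx : orderOf x = 4)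
    (hyS : y ∈ (S : Subgroup G)) (hy : orderOf y = 4) (hne : x * x ≠ y * y) (h1 : s * x * s⁻¹ = x)
    (h2 : s * y * s⁻¹ = y⁻¹) : False := by
  obtain ⟨ho, -⟩ := four_mul hTI S hxS hx hyS hy hne
  have e : s * (x * y) * s⁻¹ = x * y⁻¹ := by
    rw [show s * (x * y) * s⁻¹ = (s * x * s⁻¹) * (s * y * s⁻¹) by group, h1, h2]
  rcases normal_four hTI S (mul_mem hxS hyS) ho hs with h | h <;> rw [e] at h
  · exact four_ne_inv hy (mul_left_cancel h).symm
  · rw [mul_inv_rev, ← (commute_of_ne hTI S hxS hx hyS hy hne).inv_inv.eq] at h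
    exact four_ne_inv hx (mul_right_cancel h)

/-- Elements of order at least four centralize the elements of order four. -/
theorem commute_big {s y : G} (hs : s ∈ (S : Subgroup G)) (hs2 : s * s ≠ 1) (hyS : y ∈ (S : Subgroup G))
    (hy : orderOf y = 4) : s * y = y * s := by
  rcases normal_four hTI S hyS hy hs with h | hinvy
  · exact mul_inv_eq_iff_eq_mul.1 h
  exfalso
  obtain ⟨k, hk⟩ := two_elt S hs
  obtain ⟨x, hxs, hx⟩ := CfsgLib.TICyclic.exists_four hk hs2
  have hxS : x ∈ (S : Subgroup G) := (zpowers_le.2 hs) hxs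
  have hfix : s * x * s⁻¹ = x := by
    obtain ⟨i, rfl⟩ := mem_zpowers_iff.1 hxs
    rw [((Commute.refl s).zpow_right i).eq, mul_inv_cancel_right]
  by_cases hne : x * x = y * y
  swap
  · exact no_mixed hTI S hs hxS hx hyS hy hne hfix hinvy
  by_cases htwo : ∃ v ∈ (S : Subgroup G), orderOf v = 4 ∧ v * v ≠ y * y
  · obtain ⟨v, hvS, hv, hvy⟩ := htwo
    rcases normal_four hTI S hvS hv hs with h | h
    · exact no_mixed hTI S hs hvS hv hyS hy hvy h hinvy
    · exact no_mixed hTI S hs hxS hx hvS hv (hne ▸ Ne.symm hvy) hfix h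
  push Not at htwo
  obtain ⟨w, hwS, hwo, -, -, hinv⟩ := exists_inverting hTI S hna ⟨y, hyS, hy, rfl⟩ htwo
  have hwi := invol_inv hwo
  set u := s * w with hu
  have huy : u * y * u⁻¹ = y := by
    rw [show u * y * u⁻¹ = s * (w * y * w⁻¹) * s⁻¹ by rw [hu]; group, hinv y hyS hy,
      show s * y⁻¹ * s⁻¹ = (s * y * s⁻¹)⁻¹ by group, hinvy, inv_inv]
  have hux : u * x * u⁻¹ = x⁻¹ := by
    rw [show u * x * u⁻¹ = s * (w * x * w⁻¹) * s⁻¹ by rw [hu]; group, hinv x hxS hx,
      show s * x⁻¹ * s⁻¹ = (s * x * s⁻¹)⁻¹ by group, hfix]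
  have huu : u * u ∈ zpowers s := by
    have h := mul_mem (mem_zpowers s) (normal_cyclic hTI S hs hs2 hwS)
    rwa [hwi, show s * (w * s * w) = u * u by rw [hu]; group] at h
  obtain ⟨i, hi⟩ := mem_zpowers_iff.1 huu
  have hsu : s * (u * u) = u * u * s := by rw [← hi]; exact ((Commute.refl s).zpow_right i).eq
  have hwu : w * (u * u) * w⁻¹ = u * u := by
    calc w * (u * u) * w⁻¹ = (w * s) * (w * s) * (w * w⁻¹) := by rw [hu]; group
      _ = s⁻¹ * (u * u) * s := by rw [hu]; group
      _ = u * u := by rw [mul_assoc, ← hsu, inv_mul_cancel_left]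
  have huS : u ∈ (S : Subgroup G) := mul_mem hs hwS
  have hu4 : u * u * (u * u) = 1 := by
    by_contra hu4
    obtain ⟨l, hl⟩ := two_elt S (mul_mem huS huS)
    obtain ⟨p, hp, hpo⟩ := CfsgLib.TICyclic.exists_four hl hu4
    obtain ⟨j, rfl⟩ := mem_zpowers_iff.1 hp
    refine four_ne_inv hpo ?_
    conv_rhs => rw [← hinv _ (zpow_mem (mul_mem huS huS) j) hpo]
    rw [← conj_zpow, hwu]
  by_cases hu2 : u * u = 1
  · have hcy : Commute u y := mul_inv_eq_iff_eq_mul.1 huy
    have huyo : orderOf (u * y) = 4 := by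
      have e : u * y * (u * y) = y * y := by
        rw [hcy.symm.mul_mul_mul_comm, hu2, one_mul]
      exact orderOf_four (e ▸ invol_ne_one (sq_invol hy)) (by rw [e]; exact invol_mul_self (sq_invol hy))
    have h1 : Commute x (u * y) := four_commute hTI S hna hxS hx (mul_mem huS hyS) huyo
    have h2 : Commute x y := four_commute hTI S hna hxS hx hyS hy
    have h3 : Commute x u := by
      have := h1.mul_right h2.inv_right
      rwa [mul_inv_cancel_right] at this
    rw [← h3.eq, mul_inv_cancel_right] at hux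
    exact four_ne_inv hx hux
  · have huo : orderOf u = 4 := orderOf_four hu2 hu4
    rw [(four_commute hTI S hna huS huo hxS hx).eq, mul_inv_cancel_right] at hux
    exact four_ne_inv hx hux

/-- A nonabelian Sylow subgroup is generalised dihedral. -/
theorem exists_genDih (hS : ¬ IsMulCommutative (S : Subgroup G)) : ∃ C : Subgroup G, GenDih S C := by
  classical
  have hex : ∃ y ∈ (S : Subgroup G), orderOf y = 4 := by
    by_contra hno
    push Not at hno
    have hsq : ∀ x ∈ (S : Subgroup G), x * x = 1 := fun x hx => by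
      by_contra h
      obtain ⟨k, hk⟩ := two_elt S hx
      obtain ⟨y, hy, hyo⟩ := CfsgLib.TICyclic.exists_four hk h
      exact hno y ((zpowers_le.2 hx) hy) hyo
    refine hS (isMulCommutative_iff.2 fun a b => Subtype.ext ?_)
    show (a : G) * b = b * a
    calc (a : G) * b = ((a : G) * b)⁻¹ := eq_inv_of_mul_eq_one_left (hsq _ (mul_mem a.2 b.2))
      _ = b * a := by
        rw [mul_inv_rev, inv_eq_of_mul_eq_one_left (hsq _ a.2), inv_eq_of_mul_eq_one_left (hsq _ b.2)]
  set C := (S : Subgroup G) ⊓ centralizer {y | y ∈ (S : Subgroup G) ∧ orderOf y = 4} with hC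
  have hfour : ∀ y ∈ (S : Subgroup G), orderOf y = 4 → y ∈ C := fun y hyS hy =>
    ⟨hyS, mem_centralizer_iff.2 fun x hx => (four_commute hTI S hna hx.1 hx.2 hyS hy).eq⟩
  have hout : ∀ s ∈ (S : Subgroup G), s ∉ C → s * s = 1 := fun s hs hsC => by
    by_contra h
    exact hsC ⟨hs, mem_centralizer_iff.2 fun y hy => (commute_big hTI hna S hs h hy.1 hy.2).symm⟩
  have hinv : ∀ s ∈ (S : Subgroup G), s ∉ C → ∀ c ∈ C, s * c * s⁻¹ = c⁻¹ := fun s hs hsC c hc => by
    have h := hout (s * c) (mul_mem hs hc.1) fun e => hsC ((mul_mem_cancel_right hc).1 e)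
    rw [inv_eq_of_mul_eq_one_left (hout s hs hsC)]
    exact eq_inv_of_mul_eq_one_left (by rw [mul_assoc]; simpa [mul_assoc] using h)
  by_cases hex' : ∃ s ∈ (S : Subgroup G), s ∉ C
  · obtain ⟨s, hs, hsC⟩ := hex'
    refine ⟨C, inf_le_left, fun a ha b hb => ?_, hfour, fun r hr hrC => ⟨hout r hr hrC, hinv r hr hrC⟩,
      ⟨s, hs, hsC⟩, hex⟩
    have e : s * (a * b) * s⁻¹ = (s * a * s⁻¹) * (s * b * s⁻¹) := by group
    rw [hinv s hs hsC a ha, hinv s hs hsC b hb, hinv s hs hsC _ (mul_mem ha hb), mul_inv_rev] at e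
    exact (Commute.inv_inv_iff.1 (show Commute b⁻¹ a⁻¹ from e)).eq.symm
  exfalso
  push Not at hex'
  have hcent : ∀ y ∈ (S : Subgroup G), orderOf y = 4 → ∀ s ∈ (S : Subgroup G), s * y = y * s :=
    fun y hyS hy s hs => (mem_centralizer_iff.1 (hex' s hs).2 y ⟨hyS, hy⟩).symm
  obtain ⟨v, hvS, hv⟩ := hex
  by_cases htwo : ∃ v' ∈ (S : Subgroup G), orderOf v' = 4 ∧ v' * v' ≠ v * v
  swap
  · push Not at htwo
    obtain ⟨w, hwS, -, -, -, hw⟩ := exists_inverting hTI S hna ⟨v, hvS, hv, rfl⟩ htwo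
    have := hw v hvS hv
    rw [hcent v hvS hv w hwS, mul_inv_cancel_right] at this
    exact four_ne_inv hv this
  refine hS (isMulCommutative_iff.2 ?_)
  by_contra hnc
  have hna' : ¬ IsMulCommutative (S : Subgroup G) := fun h => hnc fun a b => h.is_comm.comm a b
  have hconj : ∀ x : (S : Subgroup G), ∀ s : (S : Subgroup G), s * x * s⁻¹ ∈ zpowers x := by
    intro x s
    by_cases hx : (x : G) * x = 1
    · have hxc : (s : G) * x = x * s := by
        have hxv : Commute (x : G) v := hcent v hvS hv x x.2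
        have e : (x : G) * v * (x * v) = v * v := by rw [hxv.symm.mul_mul_mul_comm, hx, one_mul]
        have ho : orderOf ((x : G) * v) = 4 :=
          orderOf_four (e ▸ invol_ne_one (sq_invol hv)) (by rw [e]; exact invol_mul_self (sq_invol hv))
        have h1 : Commute (s : G) ((x : G) * v) := hcent _ (mul_mem x.2 hvS) ho s s.2
        have := h1.mul_right (show Commute (s : G) v from hcent v hvS hv s s.2).inv_right
        rwa [mul_inv_cancel_right] at this
      exact mem_zpowers_iff.2 ⟨1, Subtype.ext (by simp [hxc])⟩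
    · obtain ⟨i, hi⟩ := mem_zpowers_iff.1 (normal_cyclic hTI S x.2 hx s.2)
      exact mem_zpowers_iff.2 ⟨i, Subtype.ext (by simpa using hi)⟩
  obtain ⟨Q, -, -, ⟨eQ⟩, -⟩ := Cfsg.Agent.S4211.result hna' fun H =>
    ⟨fun x hx s => (zpowers_le.2 hx) (hconj x s)⟩
  set a : (S : Subgroup G) := ((eQ.symm (QuaternionGroup.a 1) : Q) : (S : Subgroup G))
  set b : (S : Subgroup G) := ((eQ.symm (QuaternionGroup.xa 0) : Q) : (S : Subgroup G))
  have ha : orderOf (a : G) = 4 := by
    rw [Subgroup.orderOf_coe, Subgroup.orderOf_coe, MulEquiv.orderOf_eq, QuaternionGroup.orderOf_a_one]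
  have hb : orderOf (b : G) = 4 := by
    rw [Subgroup.orderOf_coe, Subgroup.orderOf_coe, MulEquiv.orderOf_eq, QuaternionGroup.orderOf_xa]
  have h : a * b = b * a := Subtype.ext (four_commute hTI S hna a.2 ha b.2 hb).eq
  have h' : (QuaternionGroup.a 1 : QuaternionGroup 2) * QuaternionGroup.xa 0 =
      QuaternionGroup.xa 0 * QuaternionGroup.a 1 :=
    eQ.symm.injective (by rw [map_mul, map_mul]; exact Subtype.ext h)
  revert h'
  decide

end CfsgLib.TICyclic
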