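import Cfsg.Agent.Lib.Invol.TICyclic.Fusion
import Cfsg.Agent.Lib.Invol.TICyclic.Converse
import Cfsg.Agent.Lib.GW.Final
import Cfsg.Agent.Lib.GW.TwoSubgroups
import Cfsg.Agent.Lib.Walter.Consumers.ReeType
import Cfsg.Agent.Lib.Ree.NotTI

/-!
# Simple groups whose cyclic subgroups of prime power order are TI subgroups

A nonabelian Sylow `2`-subgroup is dihedral, so the group is `PSL(2, q)` or `A₇`, and `A₇` has the cyclic
subgroup `⟨(1234)(56)⟩` which is not TI. With abelian Sylow `2`-subgroups the classification leaves `PSL(2, q)`,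
`J₁` and the groups of Ree type, and the last ones have a cyclic subgroup of order a power of a prime which is
not TI.
-/

set_option autoImplicit false
set_option linter.style.haveILetI false

namespace CfsgLib.TICyclic

open Subgroup

universe u

variable {G : Type u} [Group G] [Finite G]

/-- A criterion for the failure of the TI property. -/
theorem not_cycTI_of_witness (hTI : CycTI G) {c g : G} (hpp : IsPrimePow (orderOf c)) {k : ℕ}
    (hk : c ^ k ≠ 1) (hg : g * c ^ k * g⁻¹ = c ^ k) (hne : g * c * g⁻¹ ∉ zpowers c) : False := by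
  rcases hTI (zpowers c) inferInstance (by rwa [Nat.card_zpowers]) g with h | h
  · exact hne (h ▸ mem_map.2 ⟨c, mem_zpowers c, by simp⟩)
  · refine hk (mem_bot.1 (h ▸ mem_inf.2 ⟨mem_map.2 ⟨c ^ k, pow_mem (mem_zpowers c) k, ?_⟩,
      pow_mem (mem_zpowers c) k⟩))
    simp [hg]

/-- The element `(1234)(56)` of `A₇`. -/
def sevenC : Equiv.Perm (Fin 7) :=
  Equiv.swap 0 1 * Equiv.swap 1 2 * Equiv.swap 2 3 * Equiv.swap 4 5

/-- The element `(567)` of `A₇`. -/
def sevenG : Equiv.Perm (Fin 7) := Equiv.swap 4 5 * Equiv.swap 5 6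

/-- The alternating group of degree seven has a cyclic subgroup of order four which is not TI. -/
theorem not_iso_alt_seven (hTI : CycTI G) (e : G ≃* alternatingGroup (Fin 7)) : False := by
  set A : alternatingGroup (Fin 7) := ⟨sevenC, by rw [Equiv.Perm.mem_alternatingGroup]; decide⟩ with hA
  set B : alternatingGroup (Fin 7) := ⟨sevenG, by rw [Equiv.Perm.mem_alternatingGroup]; decide⟩ with hB
  have h4 : orderOf (e.symm A) = 4 := by
    rw [MulEquiv.orderOf_eq, ← Subgroup.orderOf_coe]
    exact orderOf_eq_prime_pow (p := 2) (n := 1) (by decide) (by decide)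
  refine not_cycTI_of_witness hTI (c := e.symm A) (g := e.symm B)
    (by rw [h4]; exact ⟨2, 2, Nat.prime_two.prime, two_pos, rfl⟩) (k := 2) (fun h => ?_) ?_ ?_
  · have := orderOf_dvd_of_pow_eq_one h
    rw [h4] at this
    exact absurd (Nat.le_of_dvd two_pos this) (by norm_num)
  · apply e.injective
    simp only [map_mul, map_inv, map_pow, MulEquiv.apply_symm_apply]
    apply Subtype.ext
    show sevenG * sevenC ^ 2 * sevenG⁻¹ = sevenC ^ 2
    decide
  · intro h
    rw [← mem_powers_iff_mem_zpowers, Submonoid.mem_powers_iff] at h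
    obtain ⟨j, hj⟩ := h
    rw [← pow_mod_orderOf, h4] at hj
    have hj' := congrArg (fun x : G => ((e x : alternatingGroup (Fin 7)) : Equiv.Perm (Fin 7))) hj
    simp only [map_mul, map_inv, map_pow, MulEquiv.apply_symm_apply] at hj'
    replace hj' : sevenC ^ (j % 4) = sevenG * sevenC * sevenG⁻¹ := hj'
    have hlt : j % 4 < 4 := Nat.mod_lt _ (by norm_num)
    interval_cases j % 4 <;> exact absurd hj' (by decide)

/-- The hard direction of S3411, given the classification with abelian Sylow `2`-subgroups. -/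
theorem list_of_cycTI (hC : CfsgLib.Walter.Classified.{u}) [IsSimpleGroup G] (hna : ¬ IsMulCommutative G)
    (hTI : CycTI G) :
    (∃ (F : Type) (_ : Field F) (_ : Fintype F), 3 < Fintype.card F ∧
      Nonempty (G ≃* Matrix.ProjectiveSpecialLinearGroup (Fin 2) F)) ∨ Cfsg.Spor.IsoJ1 G := by
  obtain ⟨S⟩ : Nonempty (Sylow 2 G) := inferInstance
  by_cases hS : IsMulCommutative (S : Subgroup G)
  · have hab : CfsgLib.Walter.AbTwo G := CfsgLib.Walter.abTwo_of_sylow S hS
    rcases hC G inferInstance hna hab with ⟨F, iF, iF', hF, he⟩ | hr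
    · refine Or.inl ⟨F, iF, iF', ?_, he⟩
      rcases hF with ⟨n, hn, hF⟩ | ⟨h5, -⟩
      · rw [hF]
        calc 3 < 2 ^ 2 := by norm_num
          _ ≤ 2 ^ n := Nat.pow_le_pow_right two_pos hn
      · omega
    · rcases CfsgLib.Walter.Consumers.reeType_cases hab hr with h | h
      · exact Or.inr h
      · exact (CfsgLib.ReeType.not_cyclicTI_of_isReeType h hTI).elim
  · obtain ⟨C, d⟩ := exists_genDih hTI hna S hS
    obtain ⟨n, hn, ⟨e⟩⟩ := dihedral hTI d hna
    rcases CfsgLib.GW.gwBelow (Nat.card G) G le_rfl inferInstance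
      (CfsgLib.GW.dihTwo_of_sylow S hn e) with ⟨F, iF, iF', -, h3, he⟩ | ⟨⟨e7⟩⟩
    · exact Or.inl ⟨F, iF, iF', h3, he⟩
    · exact (not_iso_alt_seven hTI e7).elim

/-- S3411, given the classification with abelian Sylow `2`-subgroups. -/
theorem S3411_of_classified (hC : CfsgLib.Walter.Classified.{u}) [IsSimpleGroup G]
    (hG : ¬ IsMulCommutative G) :
    (∀ H : Subgroup G, IsCyclic H → IsPrimePow (Nat.card H) →
      (∀ g : G, (H).map (MulAut.conj g).toMonoidHom = H ∨ (H).map (MulAut.conj g).toMonoidHom ⊓ H = ⊥)) ↔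
    ((∃ (F : Type) (_ : Field F) (_ : Fintype F), 3 < Fintype.card F ∧
      Nonempty (G ≃* Matrix.ProjectiveSpecialLinearGroup (Fin 2) F)) ∨ Cfsg.Spor.IsoJ1 G) :=
  ⟨list_of_cycTI hC hG, CfsgLib.Invol.TICyclic.Converse.ti_of_list⟩

end CfsgLib.TICyclic
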