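import Cfsg.Agent.Lib.Invol.Basic
import Cfsg.Agent.Lib.Invol.CentralInter.Basic
import Cfsg.Agent.Lib.Invol.ZStar
import Cfsg.Agent.Lib.CIT.TI
import Cfsg.Agent.S4211

/-!
# Cyclic two-subgroups with trivial intersections: the Sylow two-subgroup

If the cyclic subgroups of two-power order are TI in a simple group then a nonabelian Sylow two-subgroup
is generalised dihedral over an abelian subgroup `C`, and the involutions that are squares are central in it.
-/

set_option autoImplicit false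
set_option linter.style.haveILetI false
set_option linter.unusedSectionVars false

open Subgroup
open scoped commutatorElement

namespace CfsgLib.TICyclic

open CfsgLib.Invol

universe u

/-- The cyclic subgroups of prime power order are TI. -/
def CycTI (G : Type u) [Group G] : Prop :=
  ∀ H : Subgroup G, IsCyclic H → IsPrimePow (Nat.card H) → ∀ g : G,
    H.map (MulAut.conj g).toMonoidHom = H ∨ H.map (MulAut.conj g).toMonoidHom ⊓ H = ⊥

variable {G : Type u} [Group G] [Finite G]

theorem sq_invol {y : G} (hy : orderOf y = 4) : orderOf (y * y) = 2 := by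
  rw [← pow_two, orderOf_pow' y two_ne_zero, hy]; rfl

theorem four_pow {y : G} (hy : orderOf y = 4) : y ^ 4 = 1 := hy ▸ pow_orderOf_eq_one y

theorem four_ne_inv {y : G} (hy : orderOf y = 4) : y ≠ y⁻¹ := fun e =>
  invol_ne_one (sq_invol hy) (by nth_rewrite 2 [e]; rw [mul_inv_cancel])

theorem orderOf_four {y : G} (h1 : y * y ≠ 1) (h2 : y * y * (y * y) = 1) : orderOf y = 4 := by
  have := orderOf_eq_prime_pow (p := 2) (n := 1) (x := y) (by rwa [pow_one, pow_two])
    (by rw [show 2 ^ (1 + 1) = 2 + 2 from rfl, pow_add, pow_two]; exact h2)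
  simpa using this

theorem exists_four {x : G} {k : ℕ} (hk : x ^ 2 ^ k = 1) (hx : x * x ≠ 1) :
    ∃ y ∈ zpowers x, orderOf y = 4 := by
  obtain ⟨j, -, hj⟩ := (Nat.dvd_prime_pow Nat.prime_two).1 (orderOf_dvd_of_pow_eq_one hk)
  have h2 : 2 ≤ j := by
    by_contra h
    refine hx ?_
    rw [← pow_two]
    exact orderOf_dvd_iff_pow_eq_one.1 (hj ▸ (pow_dvd_pow 2 (show j ≤ 1 by omega)))
  refine ⟨x ^ 2 ^ (j - 2), pow_mem (mem_zpowers x) _, ?_⟩
  rw [orderOf_pow_of_dvd (by positivity) (hj ▸ pow_dvd_pow 2 (Nat.sub_le j 2)), hj,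
    Nat.pow_div (Nat.sub_le j 2) two_pos, show j - (j - 2) = 2 by omega]
  rfl

theorem mem_four {y z : G} (hy : orderOf y = 4) (hz : z ∈ zpowers y) (hzo : orderOf z = 4) :
    z = y ∨ z = y⁻¹ := by
  classical
  rw [(isOfFinOrder_of_finite y).mem_zpowers_iff_mem_range_orderOf, hy] at hz
  simp only [Finset.mem_image, Finset.mem_range] at hz
  obtain ⟨i, hi, rfl⟩ := hz
  interval_cases i
  · simp at hzo
  · exact Or.inl (pow_one y)
  · rw [pow_two, sq_invol hy] at hzo
    omega
  · exact Or.inr (eq_inv_of_mul_eq_one_left (by rw [← pow_succ, four_pow hy]))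

theorem two_elt (S : Sylow 2 G) {x : G} (hx : x ∈ (S : Subgroup G)) : ∃ k, x ^ 2 ^ k = 1 := by
  obtain ⟨k, hk⟩ := S.2 ⟨x, hx⟩
  exact ⟨k, congrArg Subtype.val hk⟩

theorem mem_smul {S : Sylow 2 G} {g x : G} :
    x ∈ ((g • S : Sylow 2 G) : Subgroup G) ↔ g⁻¹ * x * g ∈ (S : Subgroup G) := by
  rw [Sylow.coe_subgroup_smul, mem_pointwise_smul_iff_inv_smul_mem]
  simp [MulAut.smul_def]

variable (hTI : CycTI G)
include hTI

/-- A cyclic two-subgroup is normal in the centralizer of its involution. -/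
theorem conj_mem {x : G} {k : ℕ} (hx : x ^ 2 ^ k = 1) {t g : G} (ht : t ∈ zpowers x) (hto : orderOf t = 2)
    (hg : g * t = t * g) : g * x * g⁻¹ ∈ zpowers x := by
  have hne : orderOf x ≠ 1 := fun e => invol_ne_one hto (by
    rw [orderOf_eq_one_iff.1 e, zpowers_one_eq_bot, mem_bot] at ht; exact ht)
  obtain ⟨j, -, hj⟩ := (Nat.dvd_prime_pow Nat.prime_two).1 (orderOf_dvd_of_pow_eq_one hx)
  have hpp : IsPrimePow (Nat.card (zpowers x)) := by
    rw [Nat.card_zpowers, hj]
    refine (isPrimePow_nat_iff _).2 ⟨2, j, Nat.prime_two, ?_, rfl⟩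
    rcases Nat.eq_zero_or_pos j with rfl | h
    · exact absurd hj (by simpa using hne)
    · exact h
  rcases hTI (zpowers x) inferInstance hpp g with h | h
  · exact h.le ⟨x, mem_zpowers x, rfl⟩
  · refine absurd (h.le ⟨⟨t, ht, ?_⟩, ht⟩) (by simpa using invol_ne_one hto)
    show g * t * g⁻¹ = t
    rw [hg, mul_inv_cancel_right]

/-- An element centralizing the square of `y` of order four fixes or inverts `y`. -/
theorem conj_four {y g : G} (hy : orderOf y = 4) (hg : g * (y * y) = y * y * g) :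
    g * y * g⁻¹ = y ∨ g * y * g⁻¹ = y⁻¹ := by
  refine mem_four hy (conj_mem hTI (k := 2) (four_pow hy) (mul_mem (mem_zpowers y) (mem_zpowers y))
    (sq_invol hy) hg) ?_
  rw [← MulAut.conj_apply, MulEquiv.orderOf_eq, hy]

/-- Elements of order four centralizing each other's distinct squares commute. -/
theorem commute_of_sq_ne {x y : G} (hx : orderOf x = 4) (hy : orderOf y = 4) (hne : x * x ≠ y * y)
    (h1 : x * (y * y) = y * y * x) (h2 : y * (x * x) = x * x * y) : Commute x y := by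
  rcases conj_four hTI hy h1 with h | h
  · exact mul_inv_eq_iff_eq_mul.1 h
  rcases conj_four hTI hx h2 with h' | h'
  · exact (mul_inv_eq_iff_eq_mul.1 h').symm
  · exfalso
    refine hne ?_
    have e1 : x * y = y⁻¹ * x := mul_inv_eq_iff_eq_mul.1 h
    have e2 : y * x = x⁻¹ * y := mul_inv_eq_iff_eq_mul.1 h'
    calc x * x = x * (y * (y⁻¹ * x)) := by group
      _ = x * (y * (x * y)) := by rw [e1]
      _ = x * ((x⁻¹ * y) * y) := by rw [← e2, mul_assoc]
      _ = y * y := by group

/-- The square involutions of a Sylow subgroup are central in it. -/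
theorem sq_central (S : Sylow 2 G) {y : G} (hyS : y ∈ (S : Subgroup G)) (hy : orderOf y = 4) :
    ∀ s ∈ (S : Subgroup G), s * (y * y) = y * y * s := by
  haveI : Fact (Nat.Prime 2) := ⟨Nat.prime_two⟩
  by_contra hnc
  push Not at hnc
  set t := y * y with ht
  set R := ((S : Subgroup G) ⊓ centralizer ({t} : Set G)).subgroupOf (S : Subgroup G) with hR
  have hRt : R < ⊤ := by
    refine lt_top_iff_ne_top.2 fun e => ?_
    obtain ⟨s, hs, hst⟩ := hnc
    exact hst (mem_centralizer_singleton_iff.1 (subgroupOf_eq_top.1 e hs).2)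
  haveI : Group.IsNilpotent (S : Subgroup G) := S.2.isNilpotent
  obtain ⟨s₀, hs₀N, hs₀R⟩ := SetLike.exists_of_lt (Group.normalizerCondition_of_isNilpotent _ hRt)
  obtain ⟨s, hsN, hsR, hs2⟩ : ∃ s : (S : Subgroup G), s ∈ normalizer (R : Set (S : Subgroup G)) ∧ s ∉ R ∧ s * s ∈ R := by
    classical
    have hex : ∃ n, s₀ ^ 2 ^ n ∈ R := by
      obtain ⟨k, hk⟩ := S.2 s₀
      exact ⟨k, hk ▸ one_mem _⟩
    have h0 : Nat.find hex ≠ 0 := fun e => hs₀R (by
      have := Nat.find_spec hex
      rwa [e, pow_zero, pow_one] at this)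
    refine ⟨s₀ ^ 2 ^ (Nat.find hex - 1), pow_mem hs₀N _, Nat.find_min hex (by omega), ?_⟩
    rw [← pow_add, ← two_mul, ← pow_succ', Nat.sub_add_cancel (Nat.one_le_iff_ne_zero.2 h0)]
    exact Nat.find_spec hex
  have hnorm : ∀ r, r ∈ (S : Subgroup G) → r * t = t * r →
      ((s : G) * r * (s : G)⁻¹) * t = t * ((s : G) * r * (s : G)⁻¹) := fun r hr hrt =>
    mem_centralizer_singleton_iff.1 ((mem_normalizer_iff.1 hsN ⟨r, hr⟩).1
      (⟨hr, mem_centralizer_singleton_iff.2 hrt⟩ : r ∈ (S : Subgroup G) ⊓ centralizer ({t} : Set G))).2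
  have hnorm' : ∀ r, r ∈ (S : Subgroup G) → r * t = t * r →
      ((s : G)⁻¹ * r * (s : G)) * t = t * ((s : G)⁻¹ * r * (s : G)) := fun r hr hrt => by
    have h := mem_centralizer_singleton_iff.1 ((mem_normalizer_iff.1 (inv_mem hsN) ⟨r, hr⟩).1
      (⟨hr, mem_centralizer_singleton_iff.2 hrt⟩ : r ∈ (S : Subgroup G) ⊓ centralizer ({t} : Set G))).2
    simpa using h
  have hst : (s : G) * t ≠ t * s := fun e => hsR (⟨s.2, mem_centralizer_singleton_iff.2 e⟩ :
    (s : G) ∈ (S : Subgroup G) ⊓ centralizer ({t} : Set G))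
  have hyt : y * t = t * y := by rw [ht, mul_assoc]
  set x := (s : G) * y * (s : G)⁻¹ with hxdef
  have hxS : x ∈ (S : Subgroup G) := mul_mem (mul_mem s.2 hyS) (inv_mem s.2)
  have hx : orderOf x = 4 := by rw [hxdef, ← MulAut.conj_apply, MulEquiv.orderOf_eq, hy]
  have hxx : x * x = (s : G) * t * (s : G)⁻¹ := by rw [hxdef, ht]; group
  have hxt : x * t = t * x := hnorm y hyS hyt
  have hne : x * x ≠ y * y := fun e => hst (by
    rw [hxx, ← ht] at e
    exact mul_inv_eq_iff_eq_mul.1 e)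
  have hyx2 : y * (x * x) = x * x * y := by
    have h := hnorm' y hyS hyt
    rw [hxx]
    calc y * ((s : G) * t * (s : G)⁻¹) = (s : G) * (((s : G)⁻¹ * y * s) * t) * (s : G)⁻¹ := by group
      _ = (s : G) * (t * ((s : G)⁻¹ * y * s)) * (s : G)⁻¹ := by rw [h]
      _ = (s : G) * t * (s : G)⁻¹ * y := by group
  have hcom : Commute x y := commute_of_sq_ne hTI hx hy hne hxt hyx2
  have hs2t : (s : G) * s * t = t * ((s : G) * s) :=
    mem_centralizer_singleton_iff.1 (hs2 : (s : G) * s ∈ (S : Subgroup G) ⊓ centralizer ({t} : Set G)).2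
  set a := x * y * (x * y) with ha
  have hxy : a = x * x * (y * y) := by rw [ha]; exact hcom.symm.mul_mul_mul_comm _ _
  have hxxS : ∀ r, r * (x * x) = x * x * r → r * t = t * r → r * a = a * r := fun r h1 h2 => by
    rw [hxy, ← ht]
    exact ((show Commute r (x * x) from h1).mul_right (show Commute r t from h2)).eq
  have hxyo : orderOf (x * y) = 4 := by
    refine orderOf_four ?_ ?_
    · intro e
      rw [← ha, hxy, ← ht] at e
      exact hne (by rw [eq_inv_of_mul_eq_one_left e, invol_inv (sq_invol hy)])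
    · rw [← ha, hxy, (show Commute (y * y) (x * x) from (hcom.symm.mul_left hcom.symm).mul_right
        (hcom.symm.mul_left hcom.symm)).mul_mul_mul_comm, invol_mul_self (sq_invol hx),
        invol_mul_self (sq_invol hy), mul_one]
  -- `s` commutes with `a`
  have hsxx : (s : G) * (x * x) = t * s := by
    rw [hxx]
    calc (s : G) * ((s : G) * t * (s : G)⁻¹) = ((s : G) * s * t) * (s : G)⁻¹ := by group
      _ = t * s := by rw [hs2t]; group
  have hst' : (s : G) * t = x * x * s := by rw [hxx, inv_mul_cancel_right]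
  have htx : Commute t (x * x) := (hcom.symm.mul_left hcom.symm).mul_right (hcom.symm.mul_left hcom.symm)
  have hsa : (s : G) * a = a * s := by
    rw [hxy, ← ht, ← mul_assoc, hsxx, mul_assoc, hst', ← mul_assoc, htx.eq]
  -- `s ^ 2` fixes `y`
  have hsx : (s : G) * x * (s : G)⁻¹ = y := by
    have e : (s : G) * x * (s : G)⁻¹ = (s : G) * s * y * ((s : G) * s)⁻¹ := by rw [hxdef]; group
    rcases conj_four hTI hy hs2t with h | h
    · exact e.trans h
    · exfalso
      rw [h] at e
      have e2 : (s : G) * (x * y) * (s : G)⁻¹ = y⁻¹ * x := by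
        rw [show (s : G) * (x * y) * (s : G)⁻¹ = (s : G) * x * (s : G)⁻¹ * x by rw [hxdef]; group, e]
      rcases conj_four hTI hxyo hsa with h' | h' <;> rw [e2] at h'
      · refine invol_ne_one (sq_invol hy) ?_
        rw [hcom.eq] at h'
        nth_rewrite 1 [← mul_right_cancel h']
        exact inv_mul_cancel y
      · rw [mul_inv_rev] at h'
        exact four_ne_inv hx (mul_left_cancel h')
  -- the element `x * y⁻¹` is inverted by `s`
  have hy' : (s : G) * (x * y⁻¹) * (s : G)⁻¹ = (x * y⁻¹)⁻¹ := by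
    calc (s : G) * (x * y⁻¹) * (s : G)⁻¹ = (s : G) * x * (s : G)⁻¹ * x⁻¹ := by rw [hxdef]; group
      _ = _ := by rw [hsx, mul_inv_rev x y⁻¹, inv_inv]
  have hy'ne : x * y⁻¹ ≠ (x * y⁻¹)⁻¹ := fun e => hne (by
    rw [mul_inv_rev, inv_inv] at e
    calc x * x = (x * y⁻¹) * y * x := by group
      _ = y * (x⁻¹ * y) * x := by rw [e]; group
      _ = y * (x⁻¹ * x * y) := by rw [mul_assoc y, mul_assoc x⁻¹, ← hcom.eq]; group
      _ = y * y := by group)
  have hs21 : (s : G) * s = 1 := by
    by_contra h1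
    obtain ⟨k, hk⟩ := two_elt S s.2
    obtain ⟨w, hw, hwo⟩ := exists_four hk h1
    have hwy : y * (w * w) = w * w * y := by
      obtain ⟨i, hi⟩ := mem_zpowers_iff.1 hw
      have hc : Commute y ((s : G) * s) := by
        refine (mul_inv_eq_iff_eq_mul.1 ?_).symm
        calc (s : G) * s * y * ((s : G) * s)⁻¹ = (s : G) * x * (s : G)⁻¹ := by rw [hxdef]; group
          _ = y := hsx
      rw [← hi, ← zpow_add, show i + i = 2 * i by ring, zpow_mul, zpow_two]
      exact (hc.zpow_right i).eq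
    have hmem := conj_mem hTI hk ((zpowers_le.2 hw) (mul_mem (mem_zpowers w) (mem_zpowers w))) (sq_invol hwo) hwy
    rw [show y * (s : G) * y⁻¹ = y * ((s : G) * y⁻¹ * (s : G)⁻¹) * s by group,
      show (s : G) * y⁻¹ * (s : G)⁻¹ = x⁻¹ by rw [hxdef]; group,
      show y * x⁻¹ = (x * y⁻¹)⁻¹ by rw [mul_inv_rev x y⁻¹, inv_inv]] at hmem
    have h' := inv_mem ((mul_mem_cancel_right (mem_zpowers (s : G))).1 hmem)
    rw [inv_inv] at h'
    obtain ⟨i, hi⟩ := mem_zpowers_iff.1 h'
    refine hy'ne (Eq.trans ?_ hy')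
    rw [← hi, ((Commute.refl (s : G)).zpow_right i).eq, mul_inv_cancel_right]
  set q := x * (s : G) with hq
  have hqq : q * q = x * y := by
    calc q * q = x * ((s : G) * x * (s : G)⁻¹) * ((s : G) * s) := by rw [hq]; group
      _ = x * y := by rw [hsx, hs21, mul_one]
  have hq8 : q ^ 2 ^ 3 = 1 := by
    rw [show 2 ^ 3 = 2 * 4 from rfl, pow_mul, pow_two, hqq, four_pow hxyo]
  have hqa : a ∈ zpowers q := by
    rw [ha, ← hqq]
    exact mul_mem (mul_mem (mem_zpowers q) (mem_zpowers q)) (mul_mem (mem_zpowers q) (mem_zpowers q))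
  have hmem := conj_mem hTI hq8 hqa (by rw [ha]; exact sq_invol hxyo) (hxxS y hyx2 hyt)
  rw [show y * q * y⁻¹ = y * s by
    calc y * q * y⁻¹ = (y * x) * ((s : G) * y⁻¹ * (s : G)⁻¹) * s := by rw [hq]; group
      _ = (x * y) * x⁻¹ * s := by rw [hcom.eq, show (s : G) * y⁻¹ * (s : G)⁻¹ = x⁻¹ by rw [hxdef]; group]
      _ = y * s := by rw [hcom.eq]; group] at hmem
  obtain ⟨i, hi⟩ := mem_zpowers_iff.1 hmem
  refine hne ?_
  have e : q * (y * s) = y * s * q := by rw [← hi]; exact ((Commute.refl q).zpow_right i).eq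
  have e1 : (s : G) * y = x * s := by rw [hxdef, inv_mul_cancel_right]
  have e2 : (s : G) * x = y * s := by rw [← hsx, inv_mul_cancel_right]
  rw [hq] at e
  refine mul_right_cancel (b := (s : G) * s) ?_
  calc x * x * ((s : G) * s) = x * ((s : G) * y) * s := by rw [e1]; group
    _ = x * (s : G) * (y * s) := by group
    _ = y * s * (x * s) := e
    _ = y * ((s : G) * x) * s := by group
    _ = y * y * ((s : G) * s) := by rw [e2]; group

variable (S : Sylow 2 G)

/-- The cyclic subgroups of order at least four are normal in `S`. -/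
theorem normal_four {y s : G} (hyS : y ∈ (S : Subgroup G)) (hy : orderOf y = 4) (hs : s ∈ (S : Subgroup G)) :
    s * y * s⁻¹ = y ∨ s * y * s⁻¹ = y⁻¹ :=
  conj_four hTI hy (sq_central hTI S hyS hy s hs)

theorem normal_cyclic {x s : G} (hxS : x ∈ (S : Subgroup G)) (hx : x * x ≠ 1) (hs : s ∈ (S : Subgroup G)) :
    s * x * s⁻¹ ∈ zpowers x := by
  obtain ⟨k, hk⟩ := two_elt S hxS
  obtain ⟨y, hy, hyo⟩ := exists_four hk hx
  exact conj_mem hTI hk ((zpowers_le.2 hy) (mul_mem (mem_zpowers y) (mem_zpowers y))) (sq_invol hyo)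
    (sq_central hTI S ((zpowers_le.2 hxS) hy) hyo s hs)

theorem commute_of_ne {x y : G} (hxS : x ∈ (S : Subgroup G)) (hx : orderOf x = 4) (hyS : y ∈ (S : Subgroup G))
    (hy : orderOf y = 4) (hne : x * x ≠ y * y) : Commute x y :=
  commute_of_sq_ne hTI hx hy hne (sq_central hTI S hyS hy x hxS) (sq_central hTI S hxS hx y hyS)

/-- Two elements of order four with different squares give a third square. -/
theorem four_mul {x y : G} (hxS : x ∈ (S : Subgroup G)) (hx : orderOf x = 4) (hyS : y ∈ (S : Subgroup G))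
    (hy : orderOf y = 4) (hne : x * x ≠ y * y) :
    orderOf (x * y) = 4 ∧ x * y * (x * y) = x * x * (y * y) := by
  have hc := commute_of_ne hTI S hxS hx hyS hy hne
  have he : x * y * (x * y) = x * x * (y * y) := hc.symm.mul_mul_mul_comm _ _
  refine ⟨orderOf_four (fun e => hne ?_) ?_, he⟩
  · rw [he] at e
    rw [eq_inv_of_mul_eq_one_left e, invol_inv (sq_invol hy)]
  · rw [he, (show Commute (y * y) (x * x) from ((hc.symm.mul_left hc.symm).mul_right
      (hc.symm.mul_left hc.symm))).mul_mul_mul_comm, invol_mul_self (sq_invol hx),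
      invol_mul_self (sq_invol hy), mul_one]

variable [IsSimpleGroup G] (hna : ¬ IsMulCommutative G)
include hna

/-- With a single square involution `z` some involution inverts every element of order four. -/
theorem exists_inverting {z : G} (hz : ∃ y ∈ (S : Subgroup G), orderOf y = 4 ∧ y * y = z)
    (huniq : ∀ y ∈ (S : Subgroup G), orderOf y = 4 → y * y = z) :
    ∃ w ∈ (S : Subgroup G), orderOf w = 2 ∧ IsConj z w ∧ w ≠ z ∧
      ∀ y ∈ (S : Subgroup G), orderOf y = 4 → w * y * w⁻¹ = y⁻¹ := by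
  haveI : Fact (Nat.Prime 2) := ⟨Nat.prime_two⟩
  obtain ⟨y₀, hy₀S, hy₀, rfl⟩ := hz
  set z := y₀ * y₀ with hzdef
  have hzo : orderOf z = 2 := sq_invol hy₀
  have hzS : z ∈ (S : Subgroup G) := mul_mem hy₀S hy₀S
  have hzc := sq_central hTI S hy₀S hy₀
  obtain ⟨g, hg, hgz⟩ : ∃ g : G, g * z * g⁻¹ ∈ (S : Subgroup G) ∧ g * z * g⁻¹ ≠ z := by
    by_contra h
    push Not at h
    have hZ := zstar_of_weakly_closed S hzo h
    haveI := CfsgLib.Coprime.pPrimeCore_characteristic (G := G) 2
    have hO : Cfsg.pPrimeCore 2 G = ⊥ :=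
      (inferInstance : (Cfsg.pPrimeCore 2 G).Normal).eq_bot_or_eq_top.resolve_right fun e => by
        have h' := CfsgLib.Coprime.pPrimeCore_not_dvd (G := G) Nat.prime_two
        rw [e, card_top] at h'
        exact h' (CfsgLib.CIT.two_dvd_card_of_simple hna)
    have hzC : z ∈ center G := mem_center_iff.2 fun a => by
      have h1 := hZ a
      rw [hO, mem_bot, mul_inv_eq_one, mul_inv_eq_iff_eq_mul] at h1
      exact h1.symm
    rcases (inferInstance : (center G).Normal).eq_bot_or_eq_top with e | e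
    · exact invol_ne_one hzo (mem_bot.1 (e ▸ hzC))
    · exact hna (isMulCommutative_iff.2 fun a b => mem_center_iff.1 (e ▸ mem_top b) a)
  set w := g * z * g⁻¹ with hw
  refine ⟨w, hg, invol_conj hzo g, isConj_iff.2 ⟨g, rfl⟩, hgz, fun y hyS hy => ?_⟩
  refine (normal_four hTI S hyS hy hg).resolve_left fun hfix => ?_
  -- conjugate `⟨y, w⟩` into a Sylow subgroup in which `w` is central
  have hwy : Commute w y := mul_inv_eq_iff_eq_mul.1 hfix
  set C := centralizer ({w} : Set G) with hC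
  have hUC : ((g • S : Sylow 2 G) : Subgroup G) ≤ C := fun r hr => by
    have h1 := hzc _ (mem_smul.1 hr)
    refine mem_centralizer_singleton_iff.2 ?_
    calc r * w = g * ((g⁻¹ * r * g) * z) * g⁻¹ := by rw [hw]; group
      _ = g * (z * (g⁻¹ * r * g)) * g⁻¹ := by rw [h1]
      _ = w * r := by rw [hw]; group
  have hyC : y ∈ C := mem_centralizer_singleton_iff.2 hwy.symm.eq
  have hP : IsPGroup 2 (zpowers (⟨y, hyC⟩ : C)) := IsPGroup.of_card (n := 2) (by
    rw [Nat.card_zpowers, Subgroup.orderOf_mk, hy]; rfl)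
  obtain ⟨c, hc⟩ := exists_conj_le_sylow hP ((g • S : Sylow 2 G).subtype hUC)
  have hy1 : g⁻¹ * ((c : G) * y * (c : G)⁻¹) * g ∈ (S : Subgroup G) := mem_smul.1 (hc _ (mem_zpowers _))
  have hsq := huniq _ hy1 (by
    rw [show g⁻¹ * ((c : G) * y * (c : G)⁻¹) * g = MulAut.conj (g⁻¹ * (c : G)) y by simp [mul_assoc],
      MulEquiv.orderOf_eq, hy])
  refine hgz ?_
  have e : (c : G) * (y * y) * (c : G)⁻¹ = w := by
    rw [hw, ← hsq]; group
  rw [huniq y hyS hy] at e
  have hcw := mem_centralizer_singleton_iff.1 c.2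
  calc w = (c : G)⁻¹ * ((c : G) * w) := by group
    _ = (c : G)⁻¹ * (w * (c : G)) := by rw [hcw]
    _ = z := by rw [← e]; group

/-- The elements of order four of `S` commute. -/
theorem four_commute {x y : G} (hxS : x ∈ (S : Subgroup G)) (hx : orderOf x = 4) (hyS : y ∈ (S : Subgroup G))
    (hy : orderOf y = 4) : Commute x y := by
  by_cases hne : x * x = y * y
  swap
  · exact commute_of_ne hTI S hxS hx hyS hy hne
  by_cases htwo : ∃ v ∈ (S : Subgroup G), orderOf v = 4 ∧ v * v ≠ y * y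
  · obtain ⟨v, hvS, hv, hvy⟩ := htwo
    obtain ⟨hvx, hvx2⟩ := four_mul hTI S hvS hv hxS hx (hne ▸ hvy)
    have h1 : Commute (v * x) y := commute_of_ne hTI S (mul_mem hvS hxS) hvx hyS hy (by
      rw [hvx2, hne]
      exact fun e => invol_ne_one (sq_invol hv) (mul_eq_right.1 e))
    have h2 : Commute v y := commute_of_ne hTI S hvS hv hyS hy hvy
    have := h2.inv_left.mul_left h1
    rwa [inv_mul_cancel_left] at this
  push Not at htwo
  obtain ⟨w, hwS, hwo, -, -, hinv⟩ := exists_inverting hTI S hna ⟨y, hyS, hy, rfl⟩ htwo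
  refine (normal_four hTI S hxS hx hyS).elim (fun h => (mul_inv_eq_iff_eq_mul.1 h).symm) fun h => ?_
  have hxy : x * y * (x * y) = y * y := by
    calc x * y * (x * y) = x * (y * x * y⁻¹) * (y * y) := by group
      _ = y * y := by rw [h, mul_inv_cancel, one_mul]
  have hi := hinv _ (mul_mem hxS hyS) (orderOf_four (hxy ▸ invol_ne_one (sq_invol hy))
    (by rw [hxy]; exact invol_mul_self (sq_invol hy)))
  rw [show w * (x * y) * w⁻¹ = (w * x * w⁻¹) * (w * y * w⁻¹) by group, hinv x hxS hx, hinv y hyS hy,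
    mul_inv_rev] at hi
  exact Commute.inv_inv_iff.1 (show Commute x⁻¹ y⁻¹ from hi)

end CfsgLib.TICyclic
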